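import Mathlib.GroupTheory.OrderOfElement
import Mathlib.GroupTheory.PGroup
import Cfsg.Agent.Lib.Involution.Dihedral
import Cfsg.Agent.Lib.Involution.BaerSuzuki

/-!
Classes of involutions in which the product of two members has order 1, 2 or a fixed prime `p`.
-/

set_option autoImplicit false

namespace Cfsg.Agent.PTrans81

variable {G : Type*} [Group G]

/-- A normal set of involutions, two non-commuting members of which have product of order `p`. -/
structure IsPT (p : ℕ) (D : Set G) : Prop where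
  inv : ∀ x ∈ D, x * x = 1
  ne_one : ∀ x ∈ D, x ≠ 1
  conj_mem : ∀ g, ∀ x ∈ D, g * x * g⁻¹ ∈ D
  prod : ∀ x ∈ D, ∀ y ∈ D, Commute x y ∨ orderOf (x * y) = p
  prime : p.Prime
  odd : Odd p

variable {p : ℕ} {D : Set G} {c d e f g m u v x y z : G}

theorem commute_conj_iff (g x y : G) :
    Commute (g * x * g⁻¹) (g * y * g⁻¹) ↔ Commute x y := by
  show g * x * g⁻¹ * (g * y * g⁻¹) = g * y * g⁻¹ * (g * x * g⁻¹) ↔ x * y = y * x
  rw [conj_mul, conj_mul, mul_left_inj, mul_right_inj]

theorem commute_left_conj (h : Commute g x) : g * x * g⁻¹ = x := by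
  rw [h.eq, mul_inv_cancel_right]

theorem mul_self_mul (hx : x * x = 1) (hy : y * y = 1) (h : Commute x y) :
    (x * y) * (x * y) = 1 := by
  calc (x * y) * (x * y) = x * (y * x) * y := by simp only [mul_assoc]
    _ = (x * x) * (y * y) := by rw [← h.eq]; simp only [mul_assoc]
    _ = 1 := by rw [hx, hy, one_mul]

theorem commute_of_mul_self (hx : x * x = 1) (hy : y * y = 1) (h : (x * y) * (x * y) = 1) :
    Commute x y := by
  have hxi : x⁻¹ = x := inv_eq_of_mul_eq_one_right hx
  have hyi : y⁻¹ = y := inv_eq_of_mul_eq_one_right hy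
  show x * y = y * x
  rw [← inv_eq_of_mul_eq_one_right h, mul_inv_rev, hxi, hyi]

variable (hD : IsPT p D)
include hD

theorem IsPT.inv_eq (hx : x ∈ D) : x⁻¹ = x := inv_eq_of_mul_eq_one_right (hD.inv x hx)

theorem IsPT.ord (hx : x ∈ D) (hy : y ∈ D) (h : ¬ Commute x y) : orderOf (x * y) = p :=
  (hD.prod x hx y hy).resolve_left h

theorem IsPT.eq_one_of_sq (hg : g ^ p = 1) (h2 : g * g = 1) : g = 1 := by
  obtain ⟨k, hk⟩ := hD.odd
  rwa [hk, pow_succ, pow_mul, pow_two, h2, one_pow, one_mul] at hg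

theorem IsPT.pow_p (hx : x ∈ D) (hy : y ∈ D) (h : ¬ Commute x y) : (x * y) ^ p = 1 :=
  hD.ord hx hy h ▸ pow_orderOf_eq_one _

/-- An element commuting with the square of a product of two members commutes with the product. -/
theorem IsPT.commute_of_sq (hx : x ∈ D) (hy : y ∈ D) (h : ¬ Commute x y)
    (hc : Commute c ((x * y) * (x * y))) : Commute c (x * y) := by
  obtain ⟨k, hk⟩ := hD.odd
  have he : ((x * y) * (x * y)) ^ (k + 1) = x * y := by
    rw [← pow_two, ← pow_mul, show 2 * (k + 1) = p + 1 by omega, pow_succ, hD.pow_p hx hy h,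
      one_mul]
  exact he ▸ hc.pow_right (k + 1)

theorem IsPT.not_commute_conj (hx : x ∈ D) (hy : y ∈ D) (h : ¬ Commute x y) :
    ¬ Commute x (y * x * y⁻¹) := by
  intro hc
  have h1 : ((x * y) * (x * y)) * ((x * y) * (x * y)) = 1 := by
    have := mul_self_mul (hD.inv x hx) (hD.inv _ (hD.conj_mem y x hx)) hc
    rw [hD.inv_eq hy] at this
    simpa only [mul_assoc] using this
  have h2 : (x * y) * (x * y) = 1 := by
    refine hD.eq_one_of_sq ?_ h1
    rw [← pow_two, ← pow_mul, mul_comm, pow_mul, hD.pow_p hx hy h, one_pow]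
  exact h (commute_of_mul_self (hD.inv x hx) (hD.inv y hy) h2)

/-- Two members whose product is an involution times an element of order `p` commuting with it. -/
theorem IsPT.no_central_mul {w : G} (hz : z ∈ D) (hw : w ∈ D) (hx : x ∈ D) (hy : y ∈ D)
    (hxy : ¬ Commute x y) (hc2 : c * c = 1) (hc1 : c ≠ 1) (hc : Commute c (x * y))
    (he : z * w = c * (x * y)) : False := by
  rcases hD.prod z hz w hw with h | h
  · have h1 := mul_self_mul (hD.inv z hz) (hD.inv w hw) h
    rw [he, ← pow_two, hc.mul_pow, pow_two, hc2, one_mul] at h1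
    exact hxy (commute_of_mul_self (hD.inv x hx) (hD.inv y hy) (pow_two (x * y) ▸ h1))
  · have h1 : (z * w) ^ p = 1 := h ▸ pow_orderOf_eq_one _
    rw [he, hc.mul_pow, hD.pow_p hx hy hxy, mul_one] at h1
    exact hc1 (hD.eq_one_of_sq h1 hc2)

/-- A member centralising the product of two commuting members centralises both. -/
theorem IsPT.commute_left (hd : d ∈ D) (he : e ∈ D) (hde : Commute d e) (hne : d ≠ e) (hf : f ∈ D)
    (hfu : Commute f (d * e)) : Commute f d := by
  by_contra hfd
  have h2 := mul_self_mul (hD.inv d hd) (hD.inv e he) hde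
  have hud : Commute (d * e) d := (Commute.refl d).mul_left hde.symm
  refine hD.no_central_mul hf he hf hd hfd h2 (fun h => hne ?_) (hfu.symm.mul_right hud) ?_
  · rw [← hD.inv_eq hd, inv_eq_of_mul_eq_one_right h]
  · rw [(hfu.symm.mul_right hud).eq, mul_assoc f d, ← mul_assoc d d, hD.inv d hd, one_mul]

theorem IsPT.commute_right (hd : d ∈ D) (he : e ∈ D) (hde : Commute d e) (hne : d ≠ e) (hf : f ∈ D)
    (hfu : Commute f (d * e)) : Commute f e :=
  hD.commute_left he hd hde.symm hne.symm hf (hde.eq ▸ hfu)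

/-- The member interchanging two non-commuting members. -/
theorem IsPT.exists_middle (hx : x ∈ D) (hy : y ∈ D) (h : ¬ Commute x y) :
    ∃ m ∈ D, m * x * m⁻¹ = y ∧ m ∈ Subgroup.closure ({x, y} : Set G) ∧
      ∀ v : G, v * x * v⁻¹ = y → v * y * v⁻¹ = x → Commute v m := by
  obtain ⟨k, hk⟩ := hD.odd
  obtain ⟨j, hj⟩ : ∃ j : ℤ, j = -(((k : ℤ) + 1) * ((k : ℤ) + 1)) := ⟨_, rfl⟩
  have hc := Involution.conj_zpow_left (hD.inv x hx) (hD.inv y hy) j
  have hm : x * (x * y) ^ (-(2 * j)) ∈ D := hc ▸ hD.conj_mem _ x hx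
  refine ⟨_, hm, ?_, ?_, ?_⟩
  · rw [hD.inv_eq hm]
    calc x * (x * y) ^ (-(2 * j)) * x * (x * (x * y) ^ (-(2 * j)))
        = x * (x * y) ^ (-(2 * j)) * (x * x) * (x * y) ^ (-(2 * j)) := by simp only [mul_assoc]
      _ = x * (x * y) ^ (-(2 * j) + -(2 * j)) := by rw [hD.inv x hx, mul_one, mul_assoc, zpow_add]
      _ = y := by
          have he : -(2 * j) + -(2 * j) = ((p : ℕ) : ℤ) * ((p : ℤ) + 2) + 1 := by
            rw [hj, hk]; push_cast; ring
          rw [he, zpow_add, zpow_mul, zpow_natCast, hD.pow_p hx hy h, one_zpow, one_mul, zpow_one,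
            ← mul_assoc, hD.inv x hx, one_mul]
  · have h1 : x ∈ Subgroup.closure ({x, y} : Set G) :=
      Subgroup.subset_closure (by simp)
    have h2 : y ∈ Subgroup.closure ({x, y} : Set G) :=
      Subgroup.subset_closure (by simp)
    exact Subgroup.mul_mem _ h1 (Subgroup.zpow_mem _ (Subgroup.mul_mem _ h1 h2) _)
  · intro v hv1 hv2
    show v * (x * (x * y) ^ (-(2 * j))) = x * (x * y) ^ (-(2 * j)) * v
    rw [← mul_inv_eq_iff_eq_mul]
    have h0 : v * (x * (x * y) ^ (-(2 * j))) * v⁻¹
        = v * x * v⁻¹ * (v * x * v⁻¹ * (v * y * v⁻¹)) ^ (-(2 * j)) := by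
      simp only [conj_mul, conj_zpow]
    have hyx : y * x = (x * y)⁻¹ := by rw [mul_inv_rev, hD.inv_eq hy, hD.inv_eq hx]
    have hp1 : x * (x * y) = y := by rw [← mul_assoc, hD.inv x hx, one_mul]
    rw [h0, hv1, hv2, hyx, inv_zpow', neg_neg]
    nth_rewrite 1 [← hp1]
    rw [mul_assoc]
    congr 1
    have he : (1 : ℤ) + 2 * j = ((p : ℕ) : ℤ) * (-(((p : ℕ) : ℤ) + 2)) + -(2 * j) := by
      rw [hj, hk]; push_cast; ring
    rw [← zpow_one_add, he, zpow_add, zpow_mul, zpow_natCast, hD.pow_p hx hy h, one_zpow, one_mul]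

omit hD in
theorem IsPT.middle_not_commute (h : ¬ Commute x y) (hm : m * x * m⁻¹ = y) : ¬ Commute m x := by
  intro hc
  rw [commute_left_conj hc] at hm
  exact h (hm ▸ Commute.refl x)

/-- Triangles are good: `f` commutes with its image under `d e`. -/
def Good (D : Set G) : Prop :=
  ∀ d ∈ D, ∀ e ∈ D, ∀ f ∈ D, Commute d e → d ≠ e → ¬ Commute f d → ¬ Commute f e →
    Commute f ((d * e) * f * (d * e)⁻¹)

theorem commute_fuf (hu : u * u = 1) (hf : f ∈ D) (h : Commute f (u * f * u⁻¹)) :
    Commute u (f * u * f⁻¹) := by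
  rw [inv_eq_of_mul_eq_one_right hu] at h
  rw [hD.inv_eq hf]
  have h' : f * (u * f * u) = u * f * u * f := h.eq
  show u * (f * u * f) = f * u * f * u
  simpa only [mul_assoc] using h'.symm

/-- With good triangles, the two short members of a triangle have the same neighbours. -/
theorem IsPT.good_nbhd (hG : Good D) (hp : p ≠ 3) (hd : d ∈ D) (he : e ∈ D) (hde : Commute d e)
    (hne : d ≠ e) (hf : f ∈ D) (hfd : ¬ Commute f d) (hfe : ¬ Commute f e) (hx : x ∈ D)
    (hxd : Commute x d) : Commute x e := by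
  by_contra hxe
  obtain ⟨u, hu⟩ : ∃ u, u = d * e := ⟨_, rfl⟩
  have hu2 : u * u = 1 := hu ▸ mul_self_mul (hD.inv d hd) (hD.inv e he) hde
  have hud : Commute u d := by rw [hu]; exact (Commute.refl d).mul_left hde.symm
  have hdu : d * u = e := by rw [hu, ← mul_assoc, hD.inv d hd, one_mul]
  obtain ⟨u1, hu1⟩ : ∃ u1, u1 = f * u * f⁻¹ := ⟨_, rfl⟩
  have huu1 : Commute u u1 := hu1 ▸ commute_fuf hD hu2 hf
    (hu ▸ hG d hd e he f hf hde hne hfd hfe)
  have hu12 : u1 * u1 = 1 := by rw [hu1, conj_mul, hu2, mul_one, mul_inv_cancel]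
  have hu1i : u1⁻¹ = u1 := inv_eq_of_mul_eq_one_right hu12
  have hfdf : Commute d (f * d * f⁻¹) → False := hD.not_commute_conj hd hf fun h => hfd h.symm
  -- the image `g` of `d` under `f`
  obtain ⟨g, hg⟩ : ∃ g, g = f * d * f⁻¹ := ⟨_, rfl⟩
  have hgD : g ∈ D := hg ▸ hD.conj_mem f d hd
  have hgd : ¬ Commute g d := fun h => hfdf (hg ▸ h.symm)
  have hdg : d * g = (d * f) * (d * f) := by
    rw [hg, hD.inv_eq hf]; simp only [mul_assoc]
  have hge : ¬ Commute g e := by
    intro h
    have h1 : Commute e (d * f) := hD.commute_of_sq hd hf (fun h => hfd h.symm)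
      (hdg ▸ hde.symm.mul_right h.symm)
    have h2 : Commute e (d * (d * f)) := hde.symm.mul_right h1
    rw [← mul_assoc, hD.inv d hd, one_mul] at h2
    exact hfe h2.symm
  have hug : Commute u (g * u * g⁻¹) := commute_fuf hD hu2 hgD
    (hu ▸ hG d hd e he g hgD hde hne hgd hge)
  have hu1d : Commute u1 (d * u1 * d⁻¹) := by
    have h1 := (commute_conj_iff f _ _).2 hug
    rw [← hu1] at h1
    convert h1 using 1
    rw [hu1, hg]
    simp only [hD.inv_eq hf, hD.inv_eq hd, mul_inv_rev, mul_assoc]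
    simp only [← mul_assoc, hD.inv f hf, one_mul, mul_one]
  -- the two new members
  obtain ⟨e', he'⟩ : ∃ e', e' = u1 * d * u1⁻¹ := ⟨_, rfl⟩
  obtain ⟨e'', he''⟩ : ∃ e'', e'' = u1 * e * u1⁻¹ := ⟨_, rfl⟩
  have he'D : e' ∈ D := he' ▸ hD.conj_mem u1 d hd
  have he''D : e'' ∈ D := he'' ▸ hD.conj_mem u1 e he
  have hde' : Commute d e' := by
    rw [he', hu1i]
    have h1 := hu1d.eq
    rw [hD.inv_eq hd] at h1
    show d * (u1 * d * u1) = u1 * d * u1 * d
    simpa only [mul_assoc] using h1.symm
  have hue' : Commute u e' := by rw [he']; exact (huu1.mul_right hud).mul_right huu1.inv_right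
  have hee' : e'' = e' * u := by
    rw [he'', he', ← hdu, hu1i]
    simp only [mul_assoc]
    rw [huu1.eq]
  have hne' : e' ≠ d := by
    intro h
    have h1 : Commute u1 d := by
      rw [he', mul_inv_eq_iff_eq_mul] at h
      exact h
    have h2 : Commute g (d * e) := by
      have := (commute_conj_iff f _ _).2 h1
      have h0 : f * u1 * f⁻¹ = u := by
        rw [hu1, hD.inv_eq hf]
        calc f * (f * u * f) * f = (f * f) * u * (f * f) := by simp only [mul_assoc]
          _ = u := by rw [hD.inv f hf, one_mul, mul_one]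
      rw [← hg, h0, hu] at this
      exact this.symm
    exact hgd (hD.commute_left hd he hde hne hgD h2)
  have hne'' : e' ≠ e := by
    intro h
    rw [he', ← hdu, hu1i] at h
    -- the relation between the conjugates of `u`
    have h3 : ∀ k, k = d * f → Commute u (k ^ 3) := by
      intro k hk
      have hT : ∀ w, MulAut.conj k⁻¹ w = k⁻¹ * w * k := fun w => by simp
      have hk1 : MulAut.conj k⁻¹ u = u1 := by
        rw [hT, hk, hu1, mul_inv_rev, hD.inv_eq hd, hD.inv_eq hf]
        simp only [mul_assoc]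
        rw [← mul_assoc u d, hud.eq, mul_assoc d u, ← mul_assoc d d, hD.inv d hd, one_mul]
      have hkd : k * u * k⁻¹ = d * u1 * d := by
        rw [hk, hu1, mul_inv_rev, hD.inv_eq hd, hD.inv_eq hf]
        simp only [mul_assoc]
      have hr : k * u * k⁻¹ * u1 = u := by
        rw [hkd, mul_assoc, mul_assoc, ← mul_assoc u1, h, ← mul_assoc, hD.inv d hd, one_mul]
      have h0 : MulAut.conj k⁻¹ (k * u * k⁻¹) = u := by rw [hT]; group
      have hk2 : MulAut.conj k⁻¹ u1 = u * u1 := by
        have := congrArg (MulAut.conj k⁻¹) hr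
        rw [map_mul, h0, hk1] at this
        calc MulAut.conj k⁻¹ u1 = u * (u * MulAut.conj k⁻¹ u1) := by
              rw [← mul_assoc, hu2, one_mul]
          _ = u * u1 := by rw [this]
      have hk3 : MulAut.conj k⁻¹ (u * u1) = u := by
        rw [map_mul, hk1, hk2, ← mul_assoc, ← huu1.eq, mul_assoc, hu12, mul_one]
      have hall : MulAut.conj (k ^ 3)⁻¹ u = u := by
        rw [← inv_pow, map_pow, pow_succ, pow_two, MulAut.mul_apply, MulAut.mul_apply, hk1, hk2, hk3]
      rw [MulAut.conj_apply, inv_inv, mul_assoc, inv_mul_eq_iff_eq_mul] at hall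
      exact hall
    have h4 : Commute u (d * f) := by
      obtain ⟨r, c, hr⟩ : ∃ r c : ℕ, 3 * r = p * c + 1 := by
        have h30 : p % 3 ≠ 0 := fun h =>
          hp ((Nat.prime_dvd_prime_iff_eq Nat.prime_three hD.prime).1 (Nat.dvd_of_mod_eq_zero h)).symm
        rcases (show p % 3 = 1 ∨ p % 3 = 2 by omega) with h | h
        · exact ⟨(2 * p + 1) / 3, 2, by omega⟩
        · exact ⟨(p + 1) / 3, 1, by omega⟩
      have h5 : ((d * f) ^ 3) ^ r = d * f := by
        rw [← pow_mul, hr, pow_succ, pow_mul, hD.pow_p hd hf fun h => hfd h.symm, one_pow, one_mul]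
      exact h5 ▸ (h3 _ rfl).pow_right r
    have h6 : Commute u (d * (d * f)) := hud.mul_right h4
    rw [← mul_assoc, hD.inv d hd, one_mul] at h6
    exact hfd (hD.commute_left hd he hde hne hf (hu ▸ h6.symm))
  have hee'c : Commute e e' := hdu ▸ hde'.mul_left hue'
  have hne3 : e'' ≠ d := fun h => hne'' (by
    rw [hee'] at h
    rw [← hdu, ← h, mul_assoc, hu2, mul_one])
  have hne4 : e'' ≠ e := fun h => hne' (by
    rw [hee', ← hdu] at h
    exact mul_right_cancel h)
  have hde'' : Commute d e'' := hee' ▸ hde'.mul_right hud.symm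
  have hee'' : Commute e e'' := by
    rw [hee']
    exact hee'c.mul_right (hdu ▸ hud.symm.mul_left (Commute.refl u))
  by_cases h1 : Commute x e' <;> by_cases h2 : Commute x e''
  · have h3 : Commute x (e' * e'') := h1.mul_right h2
    rw [hee', ← mul_assoc, hD.inv e' he'D, one_mul] at h3
    exact hxe (hdu ▸ hxd.mul_right h3)
  · have he1 : e'' = (d * e') * e := by
      rw [hee', ← hdu, hde'.eq, mul_assoc e' d, ← mul_assoc d d, hD.inv d hd, one_mul]
    refine hD.no_central_mul hx he''D hx he hxe (mul_self_mul (hD.inv d hd) (hD.inv e' he'D) hde')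
      (fun h => hne' ?_) ((hxd.mul_right h1).symm.mul_right (hde.mul_left hee'c.symm)) ?_
    · rw [← hD.inv_eq hd, ← inv_eq_of_mul_eq_one_right h]
    · rw [he1, ← mul_assoc, (hxd.mul_right h1).eq, mul_assoc]
  · have he1 : e' = (d * e'') * e := by
      rw [hde''.eq, hee', mul_assoc, mul_assoc, ← hdu, ← mul_assoc d d, hD.inv d hd, one_mul, hu2,
        mul_one]
    refine hD.no_central_mul hx he'D hx he hxe (mul_self_mul (hD.inv d hd) (hD.inv e'' he''D) hde'')
      (fun h => hne3 ?_) ((hxd.mul_right h2).symm.mul_right (hde.mul_left hee''.symm)) ?_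
    · rw [← hD.inv_eq hd, ← inv_eq_of_mul_eq_one_right h]
    · rw [he1, ← mul_assoc, (hxd.mul_right h2).eq, mul_assoc]
  · have h3 := hG e he e'' he''D x hx hee'' hne4.symm hxe h2
    have he1 : e * e'' = d * e' := by
      rw [hee', ← hdu, mul_assoc, ← mul_assoc u e', hue'.eq, mul_assoc e' u, hu2, mul_one]
    rw [he1] at h3
    have h4 := (commute_conj_iff d _ _).2 h3
    rw [commute_left_conj hxd.symm] at h4
    refine hD.not_commute_conj hx he'D h1 ?_
    convert h4 using 1
    simp only [mul_inv_rev, hD.inv_eq hd, hD.inv_eq he'D, mul_assoc]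
    simp only [← mul_assoc, hD.inv d hd, one_mul]
    simp only [mul_one]

omit hD in
theorem mul_self_of_mem_closure {A : Set G} (hA : ∀ x ∈ A, x * x = 1)
    (hc : ∀ x ∈ A, ∀ y ∈ A, Commute x y) {g : G} (hg : g ∈ Subgroup.closure A) : g * g = 1 := by
  have := Subgroup.closure_le (K := Subgroup.centralizer A) |>.2 fun x hx =>
    Subgroup.mem_centralizer_iff.2 fun y hy => (hc y hy x hx).eq
  have hcc : ∀ a ∈ Subgroup.closure A, ∀ b ∈ Subgroup.closure A, Commute a b := fun a ha b hb => by
    induction hb using Subgroup.closure_induction with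
    | mem y hy => exact ((Subgroup.mem_centralizer_iff.1 (this ha)) y hy).symm
    | one => exact Commute.one_right a
    | mul _ _ _ _ h1 h2 => exact h1.mul_right h2
    | inv _ _ h1 => exact h1.inv_right
  induction hg using Subgroup.closure_induction with
  | mem x hx => exact hA x hx
  | one => exact one_mul 1
  | mul a b ha hb h1 h2 => exact mul_self_mul h1 h2 (hcc a ha b hb)
  | inv a _ h1 => rw [← mul_inv_rev, h1, inv_one]

/-- With commuting transitive, a product of two commuting members moving every member to a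
commuting one lies in a normal 2-subgroup. -/
theorem IsPT.exists_normal_two [Finite G] (hu1 : d * e ≠ 1)
    (hE : ∀ a ∈ D, ∀ b ∈ D, ∀ c ∈ D, Commute a b → Commute b c → Commute a c)
    (hd : d ∈ D) (he : e ∈ D) (hde : Commute d e)
    (hu : ∀ x ∈ D, Commute x ((d * e) * x * (d * e)⁻¹)) :
    ∃ N : Subgroup G, N.Normal ∧ IsPGroup 2 N ∧ d * e ∈ N := by
  have : Fact (Nat.Prime 2) := ⟨Nat.prime_two⟩
  refine Involution.baerSuzuki (d * e) fun g => ?_
  obtain ⟨A, hA⟩ : ∃ A : Set G, A = {y | y ∈ D ∧ Commute (g * d * g⁻¹) y} := ⟨_, rfl⟩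
  have hd' : g * d * g⁻¹ ∈ D := hD.conj_mem g d hd
  have hAc : ∀ a ∈ A, ∀ b ∈ A, Commute a b := by
    rw [hA]
    exact fun a ha b hb => hE a ha.1 _ hd' b hb.1 ha.2.symm hb.2
  have hAn : d * e ∈ Subgroup.normalizer (Subgroup.closure A : Set G) := by
    have h2 := mul_self_mul (hD.inv d hd) (hD.inv e he) hde
    have hi : (d * e)⁻¹ = d * e := inv_eq_of_mul_eq_one_right h2
    have hmem : ∀ a ∈ Subgroup.closure A, (d * e) * a * (d * e)⁻¹ ∈ Subgroup.closure A := by
      intro a ha
      induction ha using Subgroup.closure_induction with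
      | mem y hy =>
        rw [hA] at hy ⊢
        have hy' := hD.conj_mem (d * e) y hy.1
        exact Subgroup.subset_closure ⟨hy', hE _ hd' y hy.1 _ hy' hy.2 (hu y hy.1)⟩
      | one => simp only [mul_one, mul_inv_cancel]; exact one_mem _
      | mul a b _ _ h1 h2 => rw [← conj_mul]; exact mul_mem h1 h2
      | inv a _ h1 => rw [← conj_inv]; exact inv_mem h1
    rw [Subgroup.mem_normalizer_iff]
    intro a
    refine ⟨hmem a, fun ha => ?_⟩
    have := hmem _ ha
    rw [hi] at this
    convert this using 1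
    calc a = (d * e * (d * e)) * a * (d * e * (d * e)) := by rw [h2, one_mul, mul_one]
      _ = d * e * (d * e * a * (d * e)) * (d * e) := by simp only [mul_assoc]
  have hcl : IsPGroup 2 ↥(Subgroup.closure A) := fun a => ⟨1, Subtype.ext (by
    simp only [OneMemClass.coe_one, pow_one, pow_two]
    exact mul_self_of_mem_closure (fun x hx => hD.inv x (hA ▸ hx).1) hAc a.2)⟩
  have hz : IsPGroup 2 ↥(Subgroup.zpowers (d * e)) := IsPGroup.of_card (n := 1)
    (by rw [Nat.card_zpowers, pow_one]; exact orderOf_eq_prime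
          (by rw [pow_two]; exact mul_self_mul (hD.inv d hd) (hD.inv e he) hde) hu1)
  refine (IsPGroup.to_sup_of_normal_right' hz hcl (Subgroup.zpowers_le.2 hAn)).to_le
    ((Subgroup.closure_le _).2 ?_)
  rintro a (rfl | rfl)
  · exact Subgroup.mem_sup_left (Subgroup.mem_zpowers _)
  · refine Subgroup.mem_sup_right ?_
    rw [← conj_mul, hA]
    exact mul_mem (Subgroup.subset_closure ⟨hd', Commute.refl _⟩)
      (Subgroup.subset_closure ⟨hD.conj_mem g e he, (commute_conj_iff g _ _).2 hde⟩)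

end Cfsg.Agent.PTrans81
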