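import Cfsg.Agent.PTrans81.Basic

/-!
A smallest group with a bad triangle: commuting is transitive on the class and rotations centralise
no member.
-/

set_option autoImplicit false

namespace Cfsg.Agent.PTrans81

variable {G : Type*} [Group G]

/-- A bad triangle. -/
def IsBad (D : Set G) (a b c : G) : Prop :=
  a ∈ D ∧ b ∈ D ∧ c ∈ D ∧ Commute a b ∧ a ≠ b ∧ ¬ Commute c a ∧ ¬ Commute c b ∧
    ¬ Commute c ((a * b) * c * (a * b)⁻¹)

/-- The properties of a smallest group with a bad triangle. -/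
structure IsMinBad (p : ℕ) (D : Set G) : Prop where
  pt : IsPT p D
  gen : ∀ a b c, IsBad D a b c → Subgroup.closure ({a, b, c} : Set G) = ⊤
  norm : ∀ N : Subgroup G, N.Normal →
    (∀ x ∈ D, ∀ y ∈ D, ¬ Commute x y → x * y ∉ N) → N = ⊥
  exists_bad : ∃ a b c, IsBad D a b c

variable {p : ℕ} {D : Set G} (h : IsMinBad p D) {a b c d e f g u v x y z w : G}
include h

theorem IsMinBad.eq_one_of_central (hz : ∀ g, Commute g z) : z = 1 := by
  have hbot : Subgroup.center G = ⊥ := h.norm _ inferInstance fun x hx y hy hxy hm => by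
    have hc : x * (x * y) = x * y * x := Subgroup.mem_center_iff.1 hm x
    refine hxy ?_
    rw [mul_assoc, mul_right_inj] at hc
    exact hc
  exact Subgroup.mem_bot.1 (hbot ▸ Subgroup.mem_center_iff.2 fun g => (hz g).eq)

theorem IsMinBad.eq_one_of_commute (hb : IsBad D a b c) (ha' : Commute z a) (hb' : Commute z b)
    (hc' : Commute z c) : z = 1 := by
  refine h.eq_one_of_central fun g => ?_
  have hle : (⊤ : Subgroup G) ≤ Subgroup.centralizer {z} := by
    rw [← h.gen a b c hb, Subgroup.closure_le]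
    intro t ht
    rw [SetLike.mem_coe, Subgroup.mem_centralizer_singleton_iff]
    rcases ht with rfl | rfl | rfl
    · exact ha'.symm.eq
    · exact hb'.symm.eq
    · exact hc'.symm.eq
  exact Subgroup.mem_centralizer_singleton_iff.1 (hle (Subgroup.mem_top g))

theorem IsMinBad.bad_mem (hb : IsBad D a b c) :
    a * b ∈ D ∧ a * b ∈ Subgroup.closure ({c, (a * b) * c * (a * b)⁻¹} : Set G) := by
  obtain ⟨ha, hb', hc, hab, hne, hca, hcb, hbad⟩ := id hb
  obtain ⟨u, hu⟩ : ∃ u, u = a * b := ⟨_, rfl⟩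
  rw [← hu] at hbad ⊢
  have hu2 : u * u = 1 := hu ▸ mul_self_mul (h.pt.inv a ha) (h.pt.inv b hb') hab
  have hui : u⁻¹ = u := inv_eq_of_mul_eq_one_right hu2
  have hback : u * (u * c * u⁻¹) * u⁻¹ = c := by
    rw [hui]
    calc u * (u * c * u) * u = (u * u) * c * (u * u) := by simp only [mul_assoc]
      _ = c := by rw [hu2, one_mul, mul_one]
  obtain ⟨m, hmD, hm, hmc, hmv⟩ := h.pt.exists_middle hc (h.pt.conj_mem u c hc) hbad
  have hum : Commute u m := hmv u rfl hback
  have hma := h.pt.commute_left ha hb' hab hne hmD (hu ▸ hum.symm)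
  have hmb := h.pt.commute_right ha hb' hab hne hmD (hu ▸ hum.symm)
  have h1 : u * m = 1 := by
    refine h.eq_one_of_commute hb ?_ ?_ ?_
    · exact (hu ▸ (Commute.refl a).mul_left hab.symm).mul_left hma
    · exact (hu ▸ hab.mul_left (Commute.refl b)).mul_left hmb
    · have e : (u * m) * c * (u * m)⁻¹ = c := by
        rw [show (u * m) * c * (u * m)⁻¹ = u * (m * c * m⁻¹) * u⁻¹ by group, hm, hback]
      exact mul_inv_eq_iff_eq_mul.1 e
  have : m = u := by rw [← inv_eq_of_mul_eq_one_right h1, hui]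
  exact ⟨this ▸ hmD, this ▸ hmc⟩

theorem IsMinBad.bad_commute (hb : IsBad D a b c) (hx : x ∈ D) (hxa : Commute x a) :
    Commute x b := by
  obtain ⟨ha, hb', -, hab, -, -, -, -⟩ := id hb
  by_contra hxb
  refine h.pt.no_central_mul hx (h.bad_mem hb).1 hx hb' hxb (h.pt.inv a ha) (h.pt.ne_one a ha)
    (hxa.symm.mul_right hab) ?_
  rw [← mul_assoc, hxa.eq, mul_assoc]

theorem IsMinBad.isConj_bad (hb : IsBad D d e f) (hx : x ∈ D) : IsConj d x := by
  obtain ⟨hd, he, hf, hde, hne, hfd, hfe, -⟩ := id hb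
  have key : ∀ s ∈ D, ∀ t ∈ D, ¬ Commute s t → IsConj s t := fun s hs t ht hst => by
    obtain ⟨m, -, hm, -⟩ := h.pt.exists_middle hs ht hst
    exact isConj_iff.2 ⟨m, hm⟩
  have hdf := key d hd f hf fun h' => hfd h'.symm
  by_cases h1 : Commute x d
  swap; · exact key d hd x hx fun h' => h1 h'.symm
  by_cases h2 : Commute x f
  swap; · exact hdf.trans (key f hf x hx fun h' => h2 h'.symm)
  by_cases h3 : Commute x e
  swap; · exact (hdf.trans (key f hf e he hfe)).trans (key e he x hx fun h' => h3 h'.symm)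
  exact absurd (h.eq_one_of_commute hb h1 h3 h2) (h.pt.ne_one x hx)

theorem IsMinBad.clique (hb : IsBad D d e f) (hx : x ∈ D) (hy : y ∈ D) (hxd : Commute x d)
    (hyd : Commute y d) : Commute x y := by
  obtain ⟨hd, he, hf, hde, hne, hfd, hfe, hbad⟩ := id hb
  by_contra hxy
  obtain ⟨u, hu⟩ : ∃ u, u = d * e := ⟨_, rfl⟩
  have hu2 : u * u = 1 := hu ▸ mul_self_mul (h.pt.inv d hd) (h.pt.inv e he) hde
  have huD : u ∈ D := hu ▸ (h.bad_mem hb).1
  have hxe := h.bad_commute hb hx hxd
  have hye := h.bad_commute hb hy hyd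
  have hxu : Commute x u := hu ▸ hxd.mul_right hxe
  have hyu : Commute y u := hu ▸ hyd.mul_right hye
  have hud : Commute u d := hu ▸ (Commute.refl d).mul_left hde.symm
  have hfx : ¬ Commute f x := fun h' =>
    h.pt.ne_one x hx (h.eq_one_of_commute hb hxd hxe h'.symm)
  have hfu : ¬ Commute f u := fun h' => hfd (h.pt.commute_left hd he hde hne hf (hu ▸ h'))
  have step : ∀ w ∈ D, Commute x w → Commute y w → ¬ Commute f w →
      Commute (w * f * w⁻¹) (x * f * x⁻¹) := by
    intro w hw hxw hyw hfw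
    have hnb : ¬ IsBad D w x f := fun hb' => hxy (h.bad_commute hb' hy hyw).symm
    have hne' : w ≠ x := fun h' => hxy (h' ▸ hyw).symm
    have h1 : Commute f ((w * x) * f * (w * x)⁻¹) := by
      by_contra h1
      exact hnb ⟨hw, hx, hf, hxw.symm, hne', hfw, hfx, h1⟩
    have h2 := (commute_conj_iff x _ _).2 h1
    have e2 : x * ((w * x) * f * (w * x)⁻¹) * x⁻¹ = w * f * w⁻¹ := by
      rw [show x * ((w * x) * f * (w * x)⁻¹) * x⁻¹ = (x * w * x) * f * (x * w * x)⁻¹ by group,
        hxw.eq, mul_assoc w x x, h.pt.inv x hx, mul_one]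
    rw [e2] at h2
    exact h2.symm
  obtain ⟨F, hF⟩ : ∃ F, F = x * f * x⁻¹ := ⟨_, rfl⟩
  obtain ⟨f', hf'⟩ : ∃ f', f' = d * f * d⁻¹ := ⟨_, rfl⟩
  have hFd : Commute f' F := by rw [hf', hF]; exact step d hd hxd hyd hfd
  have hFe : Commute (e * f * e⁻¹) F := hF ▸ step e he hxe hye hfe
  have huf' : u * f' * u⁻¹ = e * f * e⁻¹ := by
    rw [hf', show u * (d * f * d⁻¹) * u⁻¹ = (u * d) * f * (u * d)⁻¹ by group, hud.eq, hu,
      ← mul_assoc d d e, h.pt.inv d hd, one_mul]
  have hbad' : IsBad D d e f' := by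
    refine ⟨hd, he, hf' ▸ h.pt.conj_mem d f hf, hde, hne, ?_, ?_, ?_⟩
    · intro h'
      have h1 := (commute_conj_iff d f d).1 (by
        rw [← hf', mul_inv_cancel_right]; exact h')
      exact hfd h1
    · intro h'
      have h1 := (commute_conj_iff d f e).1 (by
        rw [← hf', commute_left_conj hde]; exact h')
      exact hfe h1
    · intro h'
      refine hbad ((commute_conj_iff d _ _).1 ?_)
      rw [← hf']
      convert h' using 1
      rw [← hu, hf']
      have e3 : d * u = u * d := hud.eq.symm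
      calc d * (u * f * u⁻¹) * d⁻¹ = (d * u) * f * (d * u)⁻¹ := by group
        _ = _ := by rw [e3]; group
  have hmem := (h.bad_mem hbad').2
  rw [← hu, huf'] at hmem
  have hle : Subgroup.closure ({f', e * f * e⁻¹} : Set G) ≤ Subgroup.centralizer {F} := by
    rw [Subgroup.closure_le]
    intro t ht
    rw [SetLike.mem_coe, Subgroup.mem_centralizer_singleton_iff]
    rcases ht with rfl | rfl
    · exact hFd.eq
    · exact hFe.eq
  have h3 : Commute u F := Subgroup.mem_centralizer_singleton_iff.1 (hle hmem)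
  refine hfu ((commute_conj_iff x f u).1 ?_)
  rw [← hF, commute_left_conj hxu]
  exact h3.symm

theorem IsMinBad.trans_commute (ha : a ∈ D) (hb : b ∈ D) (hc : c ∈ D) (hab : Commute a b)
    (hbc : Commute b c) : Commute a c := by
  obtain ⟨d, e, f, hbad⟩ := h.exists_bad
  obtain ⟨g, hg⟩ := isConj_iff.1 (h.isConj_bad hbad hb).symm
  refine (commute_conj_iff g a c).1 (h.clique hbad (h.pt.conj_mem g a ha) (h.pt.conj_mem g c hc)
    (hg ▸ (commute_conj_iff g a b).2 hab) (hg ▸ (commute_conj_iff g c b).2 hbc.symm))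

theorem IsMinBad.isConj (hx : x ∈ D) (hy : y ∈ D) : IsConj x y := by
  obtain ⟨d, e, f, hbad⟩ := h.exists_bad
  exact (h.isConj_bad hbad hx).symm.trans (h.isConj_bad hbad hy)

theorem IsMinBad.no_two [Finite G] {N : Subgroup G} (hN : N.Normal) (h2 : IsPGroup 2 N) :
    N = ⊥ := by
  refine h.norm N hN fun x hx y hy hxy hm => ?_
  obtain ⟨k, hk⟩ := IsPGroup.iff_orderOf.1 h2 ⟨_, hm⟩
  rw [Subgroup.orderOf_mk, h.pt.ord hx hy hxy] at hk
  have h2p := (Nat.prime_dvd_prime_iff_eq h.pt.prime Nat.prime_two).1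
    (h.pt.prime.dvd_of_dvd_pow (hk.symm ▸ dvd_refl p : p ∣ 2 ^ k))
  exact absurd h.pt.odd (by rw [h2p]; decide)

theorem IsMinBad.mul_mem [Finite G] (ha : a ∈ D) (hb : b ∈ D) (hab : Commute a b) (hne : a ≠ b) :
    a * b ∈ D := by
  by_contra hu
  have hu2 := mul_self_mul (h.pt.inv a ha) (h.pt.inv b hb) hab
  have hu1 : a * b ≠ 1 := fun h' => hne (by
    rw [← h.pt.inv_eq ha, inv_eq_of_mul_eq_one_right h'])
  obtain ⟨N, hN, hN2, hm⟩ := h.pt.exists_normal_two hu1
    (fun x hx y hy z hz h1 h2 => h.trans_commute hx hy hz h1 h2) ha hb hab (by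
      intro c hc
      by_cases hca : Commute c a
      · have hcb := h.trans_commute hc ha hb hca hab
        rw [commute_left_conj (hca.mul_right hcb).symm]
      · have hcb : ¬ Commute c b := fun h' => hca (h.trans_commute hc hb ha h' hab.symm)
        by_contra h'
        exact hu (h.bad_mem ⟨ha, hb, hc, hab, hne, hca, hcb, h'⟩).1)
  rw [h.no_two hN hN2, Subgroup.mem_bot] at hm
  exact hu1 hm

theorem IsMinBad.eq_one_of_triple [Finite G] (ha : a ∈ D) (hb : b ∈ D) (hc : c ∈ D)
    (hab : Commute a b) (hne : a ≠ b) (hca : ¬ Commute c a) (hza : Commute z a)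
    (hzb : Commute z b) (hzc : Commute z c) : z = 1 := by
  have hcb : ¬ Commute c b := fun h' => hca (h.trans_commute hc hb ha h' hab.symm)
  have hu := h.mul_mem ha hb hab hne
  have hcu : ¬ Commute c (a * b) := fun h' =>
    hca (h.pt.commute_left ha hb hab hne hc h')
  exact h.eq_one_of_commute ⟨ha, hb, hc, hab, hne, hca, hcb,
    h.pt.not_commute_conj hc hu hcu⟩ hza hzb hzc

/-- A rotation centralises no member. -/
theorem IsMinBad.not_commute_rot (hx : x ∈ D) (hy : y ∈ D) (hz : z ∈ D) (hxy : ¬ Commute x y) :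
    ¬ Commute z (x * y) := by
  intro hza
  have key : ∀ m ∈ D, Commute m x → Commute m (x * y) → False := fun m hm h1 h2 => by
    have h3 := h1.mul_right h2
    rw [← mul_assoc, h.pt.inv x hx, one_mul] at h3
    exact hxy (h.trans_commute hx hm hy h1.symm h3)
  by_cases hzx : Commute z x
  · exact key z hz hzx hza
  have hz' : ¬ Commute z (x * z * x⁻¹) := h.pt.not_commute_conj hz hx hzx
  obtain ⟨m, hm, -, hmc, hmv⟩ := h.pt.exists_middle hz (h.pt.conj_mem x z hz) hz'
  have hback : x * (x * z * x⁻¹) * x⁻¹ = z := by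
    rw [h.pt.inv_eq hx]
    calc x * (x * z * x) * x = (x * x) * z * (x * x) := by simp only [mul_assoc]
      _ = z := by rw [h.pt.inv x hx, one_mul, mul_one]
  refine key m hm (hmv x rfl hback).symm ?_
  have hza' : Commute (x * z * x⁻¹) (x * y) := by
    have h1 := (commute_conj_iff x z (x * y)).2 hza
    rw [Involution.inverts_mul (h.pt.inv x hx) (h.pt.inv y hy)] at h1
    exact inv_inv (x * y) ▸ h1.inv_right
  have hle : Subgroup.closure ({z, x * z * x⁻¹} : Set G) ≤ Subgroup.centralizer {x * y} := by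
    rw [Subgroup.closure_le]
    intro t ht
    rw [SetLike.mem_coe, Subgroup.mem_centralizer_singleton_iff]
    rcases ht with rfl | rfl
    · exact hza.eq
    · exact hza'.eq
  exact Subgroup.mem_centralizer_singleton_iff.1 (hle hmc)

end Cfsg.Agent.PTrans81
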