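import Mathlib.GroupTheory.Sylow
import Cfsg.Agent.ZStar.Main
import Cfsg.Agent.Lib.Involution.Dihedral

/-!
A set of involutions closed under its own conjugation, any two members of which have product of
order `p`, has `p`-power size.
-/

set_option autoImplicit false

namespace Cfsg.Agent.PTrans81

open scoped Pointwise

theorem ncard_pow_of_odd_products {G : Type*} [Group G] [Finite G] {p : ℕ} (hp : p.Prime)
    (hodd : Odd p) {S : Set G} (hne : S.Nonempty) (h2 : ∀ x ∈ S, orderOf x = 2)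
    (hconj : ∀ x ∈ S, ∀ y ∈ S, x * y * x⁻¹ ∈ S)
    (hord : ∀ x ∈ S, ∀ y ∈ S, x ≠ y → orderOf (x * y) = p) :
    ∃ j, S.ncard = p ^ j := by
  classical
  obtain ⟨x, hx⟩ := hne
  obtain ⟨W, hW⟩ : ∃ W : Subgroup G, W = Subgroup.closure S := ⟨_, rfl⟩
  have hmemW : ∀ {y}, y ∈ S → y ∈ W := fun hy => hW ▸ Subgroup.subset_closure hy
  have hWS : ∀ g ∈ W, ∀ y ∈ S, g * y * g⁻¹ ∈ S := by
    have : W ≤ Subgroup.normalizer S := by
      rw [hW, Subgroup.closure_le]
      intro z hz
      show ∀ y, y ∈ S ↔ z * y * z⁻¹ ∈ S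
      refine fun y => ⟨hconj z hz y, fun h => ?_⟩
      have h' := hconj z hz _ h
      have hzz := Involution.mul_self_of_orderOf (h2 z hz)
      rw [Involution.inv_of_orderOf (h2 z hz)] at h'
      have : z * (z * y * z) * z = y := by
        calc z * (z * y * z) * z = (z * z) * y * (z * z) := by simp only [mul_assoc]
          _ = y := by rw [hzz, one_mul, mul_one]
      rwa [this] at h'
    exact fun g hg y hy => ((this hg : ∀ y, y ∈ S ↔ g * y * g⁻¹ ∈ S) y).1 hy
  obtain ⟨x', hx'⟩ : ∃ x' : W, (x' : G) = x := ⟨⟨x, hmemW hx⟩, rfl⟩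
  have hx2 : orderOf x' = 2 := by rw [← Subgroup.orderOf_coe, hx', h2 x hx]
  have hxinv := Involution.inv_of_orderOf (h2 x hx)
  have hcomm : ∀ g : W, orderOf (x' * g * x'⁻¹ * g⁻¹) = 1 ∨ orderOf (x' * g * x'⁻¹ * g⁻¹) = p := by
    intro g
    rw [← Subgroup.orderOf_coe]
    push_cast
    rw [hx', hxinv, show x * g * x * (g : G)⁻¹ = x * (g * x * (g : G)⁻¹) by group]
    by_cases he : x = g * x * (g : G)⁻¹
    · left
      rw [← he, Involution.mul_self_of_orderOf (h2 x hx), orderOf_one]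
    · exact Or.inr (hord x hx _ (hWS g g.2 x hx) he)
  have hiso : ZStar.OddComm x' := fun g => by
    rcases hcomm g with h | h <;> rw [h]
    · exact odd_one
    · exact hodd
  obtain ⟨N, hN, hNodd, hxN⟩ := ZStar.zStar hx2 hiso
  obtain ⟨C, hC⟩ : ∃ C : Subgroup N, C = (Subgroup.centralizer {x'}).comap N.subtype := ⟨_, rfl⟩
  have hCmem : ∀ h : N, h ∈ C ↔ (h : W) * x' = x' * (h : W) := fun h => by
    rw [hC]
    simp only [Subgroup.mem_comap, Subgroup.mem_centralizer_singleton_iff, Subgroup.coe_subtype]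
  -- the orbit map
  have hcard : S.ncard = C.index := by
    rw [← Nat.card_coe_set_eq, Subgroup.index]
    refine (Nat.card_congr (Equiv.ofBijective
      (Quotient.lift (fun h : N => (⟨((h : W) : G) * x * ((h : W) : G)⁻¹,
        hWS _ (h : W).2 x hx⟩ : S)) ?_) ⟨?_, ?_⟩)).symm
    · intro a b hab
      have h := (hCmem _).1 (QuotientGroup.leftRel_apply.1 hab)
      have h' := congrArg (fun w : W => (w : G)) h
      push_cast at h'
      rw [hx'] at h'
      refine Subtype.ext ?_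
      show ((a : W) : G) * x * ((a : W) : G)⁻¹ = ((b : W) : G) * x * ((b : W) : G)⁻¹
      calc _ = ((a : W) : G) * (x * ((((a : W) : G))⁻¹ * ((b : W) : G))) * ((b : W) : G)⁻¹ := by
            group
        _ = _ := by rw [← h']; group
    · intro a b
      induction a using Quotient.inductionOn with | _ a =>
      induction b using Quotient.inductionOn with | _ b =>
      intro h
      apply Quotient.sound
      show QuotientGroup.leftRel C a b
      rw [QuotientGroup.leftRel_apply, hCmem]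
      refine Subtype.ext ?_
      push_cast
      rw [hx']
      have h' : ((a : W) : G) * x * ((a : W) : G)⁻¹ = ((b : W) : G) * x * ((b : W) : G)⁻¹ :=
        congrArg Subtype.val h
      calc ((a : W) : G)⁻¹ * ((b : W) : G) * x
          = ((a : W) : G)⁻¹ * (((b : W) : G) * x * ((b : W) : G)⁻¹) * ((b : W) : G) := by group
        _ = _ := by rw [← h']; group
    · rintro ⟨y, hy⟩
      by_cases hxy : x = y
      · exact ⟨Quotient.mk _ 1, Subtype.ext (by simp [hxy])⟩
      obtain ⟨k, hk⟩ := id hodd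
      have hxx := Involution.mul_self_of_orderOf (h2 x hx)
      have hyy := Involution.mul_self_of_orderOf (h2 y hy)
      have hpow : (x * y) ^ p = 1 := hord x hx y hy hxy ▸ pow_orderOf_eq_one _
      have hconjy : (x * y) ^ (k : ℤ) * x * ((x * y) ^ (k : ℤ))⁻¹ = y := by
        rw [Involution.conj_zpow_left hxx hyy,
          show -(2 * (k : ℤ)) = ((p : ℕ) : ℤ) * (-1) + 1 by rw [hk]; push_cast; ring,
          zpow_add, zpow_mul, zpow_natCast, hpow, one_zpow, one_mul, zpow_one, ← mul_assoc, hxx,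
          one_mul]
      obtain ⟨r, hr⟩ : ∃ r : W, r = x' * ⟨y, hmemW hy⟩ := ⟨_, rfl⟩
      have hrN : r ∈ N := by
        convert hxN (r ^ (k : ℤ)) using 1
        refine Subtype.ext ?_
        rw [hr]
        push_cast
        rw [hx', hxinv]
        conv_rhs => rw [mul_assoc, mul_assoc, ← mul_assoc ((x * y) ^ (k : ℤ)), hconjy]
      refine ⟨Quotient.mk _ ⟨r ^ (k : ℤ), zpow_mem hrN _⟩, Subtype.ext ?_⟩
      show ((r ^ (k : ℤ) : W) : G) * x * ((r ^ (k : ℤ) : W) : G)⁻¹ = y
      rw [hr]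
      push_cast
      rw [hx']
      exact hconjy
  refine ⟨_, hcard ▸ Nat.eq_prime_pow_of_unique_prime_dvd (Subgroup.index_ne_zero_of_finite) ?_⟩
  intro r hr hdvd
  by_contra hrp
  have : Fact r.Prime := ⟨hr⟩
  have : Fact (Nat.Prime 2) := ⟨Nat.prime_two⟩
  obtain ⟨φ, hφ⟩ : ∃ φ : MulAut N, φ = MulAut.conjNormal x' := ⟨_, rfl⟩
  have hφ2 : φ ^ 2 = 1 := by
    rw [hφ, ← map_pow, show x' ^ 2 = 1 from hx2 ▸ pow_orderOf_eq_one x', map_one]
  have hP : IsPGroup 2 ↥(Subgroup.zpowers φ) := by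
    obtain ⟨i, -, hi⟩ := (Nat.dvd_prime_pow Nat.prime_two).1
      (show orderOf φ ∣ 2 ^ 1 from orderOf_dvd_of_pow_eq_one hφ2)
    exact IsPGroup.of_card (n := i) (by rw [Nat.card_zpowers, hi])
  have hsyl : Odd (Nat.card (Sylow r N)) :=
    hNodd.of_dvd_nat ((Sylow.card_dvd_index default).trans (Subgroup.index_dvd_card _))
  have hfix : (MulAction.fixedPoints ↥(Subgroup.zpowers φ) (Sylow r N)).Nonempty := by
    by_contra he
    have h := hP.card_modEq_card_fixedPoints (α := Sylow r N)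
    rw [Set.not_nonempty_iff_eq_empty] at he
    rw [he, Nat.card_coe_set_eq, Set.ncard_empty, Nat.ModEq, Nat.zero_mod] at h
    have := Nat.odd_iff.1 hsyl
    omega
  obtain ⟨R, hR⟩ := hfix
  have hRC : (R : Subgroup N) ≤ C := by
    intro h hh
    have hmem : φ h ∈ R := by
      have e : φ • R = R := hR ⟨φ, Subgroup.mem_zpowers φ⟩
      rw [← e]
      exact Subgroup.smul_mem_pointwise_smul h φ _ hh
    obtain ⟨w, hw⟩ : ∃ w : N, w = φ h * h⁻¹ := ⟨_, rfl⟩
    have hwR : w ∈ R := hw ▸ mul_mem hmem (inv_mem hh)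
    have hwW : (w : W) = x' * (h : W) * x'⁻¹ * (h : W)⁻¹ := by
      rw [hw, hφ]
      simp
    obtain ⟨i, hi⟩ := IsPGroup.iff_orderOf.1 R.2 ⟨w, hwR⟩
    rw [Subgroup.orderOf_mk, ← Subgroup.orderOf_coe, hwW] at hi
    have hw1 : x' * (h : W) * x'⁻¹ * (h : W)⁻¹ = 1 := by
      rcases hcomm h with e | e
      · exact orderOf_eq_one_iff.1 e
      · rw [e] at hi
        exact absurd ((Nat.prime_dvd_prime_iff_eq hp hr).1
          (hp.dvd_of_dvd_pow (hi.symm ▸ dvd_refl p : p ∣ r ^ i))).symm hrp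
    rw [hCmem]
    rw [mul_inv_eq_one, mul_inv_eq_iff_eq_mul] at hw1
    exact hw1.symm
  exact R.not_dvd_index (hdvd.trans (Subgroup.index_dvd_of_le hRC))

end Cfsg.Agent.PTrans81
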