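import Mathlib.Algebra.Ring.Int.Parity
import Mathlib.Algebra.Ring.Nat
import Mathlib.GroupTheory.PGroup
import Cfsg.Agent.PTrans81.Minimal
import Cfsg.Agent.PTrans81.Sym

/-!
No smallest group with a bad triangle exists when `p ≥ 5`: the blocks of commuting members give a
contradiction by counting fixed blocks of rotations.
-/

set_option autoImplicit false
set_option linter.unusedSectionVars false

namespace Cfsg.Agent.PTrans81

theorem eq_one_of_pow_add_one {p j n : ℕ} (hodd : Odd p) (hp : 2 ≤ p) (hj : 1 ≤ j)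
    (h : p ^ j + 1 = 2 ^ n) : j = 1 := by
  obtain ⟨i, rfl | rfl⟩ := Nat.even_or_odd' j
  · exfalso
    have h4 : p ^ (2 * i) % 4 = 1 := by
      obtain ⟨k, hk⟩ := hodd.pow (n := i)
      rw [mul_comm, pow_mul, hk]
      ring_nf
      omega
    have h2 : 2 ^ 2 ≤ p ^ (2 * i) :=
      le_trans (Nat.pow_le_pow_left hp 2) (Nat.pow_le_pow_right (by omega) (by omega))
    match n with
    | 0 => omega
    | 1 => omega
    | n + 2 =>
      rw [pow_add] at h
      omega
  · have hdvd : p + 1 ∣ 2 ^ n := by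
      rw [← h]
      simpa using Odd.nat_add_dvd_pow_add_pow p 1 (odd_two_mul_add_one i)
    obtain ⟨a, -, ha⟩ := (Nat.dvd_prime_pow Nat.prime_two).1 hdvd
    have ha2 : 2 ≤ a := by
      by_contra hc
      interval_cases a <;> omega
    obtain ⟨b, rfl⟩ : ∃ b, a = b + 2 := ⟨a - 2, by omega⟩
    have hM : 2 ^ (b + 3) = 2 * (p + 1) := by rw [ha, pow_succ]; ring
    have hsq : p * p ≡ 1 [MOD 2 ^ (b + 3)] := by
      refine Nat.ModEq.symm ((Nat.modEq_iff_dvd' (by nlinarith)).2 ?_)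
      have h2 : Even (p - 1) := by
        obtain ⟨k, hk⟩ := hodd
        exact ⟨k, by omega⟩
      obtain ⟨k, hk⟩ := h2
      refine ⟨k, ?_⟩
      rw [hM]
      have : p = k + k + 1 := by omega
      rw [this]
      ring_nf
      omega
    have h1 : p ^ (2 * i + 1) + 1 ≡ p + 1 [MOD 2 ^ (b + 3)] := by
      refine Nat.ModEq.add_right 1 ?_
      rw [show p ^ (2 * i + 1) = (p * p) ^ i * p by rw [pow_succ, pow_mul, pow_two]]
      simpa using (hsq.pow i).mul_right p
    rw [h, ha] at h1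
    have hn : n = b + 2 := by
      rcases lt_trichotomy n (b + 2) with hlt | heq | hgt
      · exfalso
        have h3 := Nat.pow_lt_pow_right one_lt_two hlt
        have h4 : p ≤ p ^ (2 * i + 1) := Nat.le_self_pow (by omega) p
        omega
      · exact heq
      · exfalso
        have h3 : 2 ^ (b + 3) ∣ 2 ^ n := pow_dvd_pow 2 (by omega)
        have h4 := h1.symm.trans (Nat.modEq_zero_iff_dvd.2 h3)
        have h5 := Nat.le_of_dvd (by positivity) (Nat.modEq_zero_iff_dvd.1 h4)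
        have h6 : 2 ^ (b + 2) < 2 ^ (b + 3) := Nat.pow_lt_pow_right one_lt_two (by omega)
        omega
    rw [hn, ← ha] at h
    have h7 : p ^ (2 * i + 1) = p ^ 1 := by rw [pow_one]; omega
    exact Nat.pow_right_injective hp h7

/-- An element of order `p` normalising a subgroup of order `p` centralises it. -/
theorem commute_of_normalize {G : Type*} [Group G] {p : ℕ} (hp : p.Prime) {a b : G}
    (ha : a ^ p = 1) (hb : orderOf b = p) {t : ℤ} (h : a * b * a⁻¹ = b ^ t) : Commute a b := by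
  have : Fact p.Prime := ⟨hp⟩
  have hpow : ∀ n : ℕ, a ^ n * b * (a ^ n)⁻¹ = b ^ (t ^ n) := by
    intro n
    induction n with
    | zero => simp
    | succ n ih =>
      rw [pow_succ' a, mul_inv_rev, show a * a ^ n * b * ((a ^ n)⁻¹ * a⁻¹)
          = a * (a ^ n * b * (a ^ n)⁻¹) * a⁻¹ by group, ih, ← conj_zpow, h, ← zpow_mul,
        pow_succ' t]
  have h1 : b ^ (t ^ p) = b := by rw [← hpow p, ha, one_mul, inv_one, mul_one]
  have h2 : (orderOf b : ℤ) ∣ t ^ p - 1 := by
    refine orderOf_dvd_iff_zpow_eq_one.2 ?_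
    rw [zpow_sub, h1, zpow_one, mul_inv_cancel]
  rw [hb] at h2
  have h3 : ((p : ℕ) : ℤ) ∣ t - 1 := by
    rw [← ZMod.intCast_zmod_eq_zero_iff_dvd] at h2 ⊢
    push_cast at h2 ⊢
    rwa [ZMod.pow_card] at h2
  rw [← hb] at h3
  have h4 : b ^ t = b := by
    have := orderOf_dvd_iff_zpow_eq_one.1 h3
    rwa [zpow_sub, zpow_one, mul_inv_eq_one] at this
  rw [h4, mul_inv_eq_iff_eq_mul] at h
  exact h

variable {G : Type*} [Group G]

section
variable {p : ℕ} {D : Set G} (h : IsMinBad p D)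

/-- Members are equivalent when they commute. -/
def IsMinBad.blockSetoid : Setoid D where
  r a b := Commute a.1 b.1
  iseqv := ⟨fun a => Commute.refl _, Commute.symm,
    fun {a b c} => h.trans_commute a.2 b.2 c.2⟩

/-- The blocks. -/
def IsMinBad.Blk : Type _ := Quotient h.blockSetoid

/-- The block of a member. -/
def IsMinBad.bl {x : G} (hx : x ∈ D) : h.Blk := Quotient.mk h.blockSetoid ⟨x, hx⟩

theorem IsMinBad.bl_eq {x y : G} {hx : x ∈ D} {hy : y ∈ D} :
    h.bl hx = h.bl hy ↔ Commute x y := Quotient.eq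

instance [Finite G] : Finite h.Blk := inferInstanceAs (Finite (Quotient h.blockSetoid))

instance : MulAction G h.Blk where
  smul g := Quotient.map (fun x : D => (⟨g * x.1 * g⁻¹, h.pt.conj_mem g x.1 x.2⟩ : D))
    fun a b hab => (commute_conj_iff g a.1 b.1).2 hab
  one_smul q := by
    induction q using Quotient.inductionOn with
    | _ a => exact congrArg (Quotient.mk h.blockSetoid) (Subtype.ext (by simp))
  mul_smul g g' q := by
    induction q using Quotient.inductionOn with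
    | _ a => exact congrArg (Quotient.mk h.blockSetoid) (Subtype.ext (by group))

theorem IsMinBad.smul_bl (g : G) {x : G} (hx : x ∈ D) :
    g • h.bl hx = h.bl (h.pt.conj_mem g x hx) := rfl

theorem IsMinBad.exists_bl (B : h.Blk) : ∃ (z : G) (hz : z ∈ D), h.bl hz = B := by
  induction B using Quotient.inductionOn with
  | _ a => exact ⟨a.1, a.2, rfl⟩

end

variable [Finite G] {p : ℕ} {D : Set G} {x y z w : G}

/-- The members commuting with `z`. -/
def block (D : Set G) (z : G) : Set G := {x | x ∈ D ∧ Commute x z}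

/-- The members carrying the block of `z` to that of `w`. -/
def swappers (D : Set G) (z w : G) : Set G := {x | x ∈ D ∧ Commute w (x * z * x⁻¹)}

variable (h : IsMinBad p D)
include h

theorem IsMinBad.ncard_block (hz : z ∈ D) (hw : w ∈ D) :
    (block D z).ncard = (block D w).ncard := by
  obtain ⟨g, hg⟩ := isConj_iff.1 (h.isConj hz hw)
  refine Set.ncard_congr (fun x _ => g * x * g⁻¹) ?_ ?_ ?_
  · exact fun x hx => ⟨h.pt.conj_mem g x hx.1, hg ▸ (commute_conj_iff g x z).2 hx.2⟩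
  · exact fun a b _ _ hab => by simpa using hab
  · intro b hb
    refine ⟨g⁻¹ * b * g, ⟨by simpa using h.pt.conj_mem g⁻¹ b hb.1, ?_⟩, by group⟩
    refine (commute_conj_iff g _ z).1 ?_
    rw [hg, show g * (g⁻¹ * b * g) * g⁻¹ = b by group]
    exact hb.2

/-- A block together with the identity is a 2-group. -/
theorem IsMinBad.ncard_block_succ (hz : z ∈ D) : ∃ n, (block D z).ncard + 1 = 2 ^ n := by
  have : Fact (Nat.Prime 2) := ⟨Nat.prime_two⟩
  obtain ⟨E, hE⟩ : ∃ E : Subgroup G, (E : Set G) = insert 1 (block D z) := by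
    refine ⟨⟨⟨⟨insert 1 (block D z), ?_⟩, Or.inl rfl⟩, ?_⟩, rfl⟩
    · rintro a b (rfl | ha) (rfl | hb)
      · exact Or.inl (one_mul 1)
      · exact Or.inr (by rwa [one_mul])
      · exact Or.inr (by rwa [mul_one])
      · by_cases hab : a = b
        · exact Or.inl (hab ▸ h.pt.inv a ha.1)
        · exact Or.inr ⟨h.mul_mem ha.1 hb.1 (h.trans_commute ha.1 hz hb.1 ha.2 hb.2.symm) hab,
            ha.2.mul_left hb.2⟩
    · rintro a (rfl | ha)
      · exact Or.inl inv_one
      · exact Or.inr (show a⁻¹ ∈ block D z by rwa [h.pt.inv_eq ha.1])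
  have h2 : IsPGroup 2 E := fun a => ⟨1, Subtype.ext (by
    simp only [SubgroupClass.coe_pow, OneMemClass.coe_one, pow_one, pow_two]
    have ha : (a : G) ∈ (E : Set G) := a.2
    rw [hE] at ha
    rcases ha with ha | ha
    · rw [Subgroup.coe_mul, ha, one_mul]
    · rw [Subgroup.coe_mul]; exact h.pt.inv _ ha.1)⟩
  obtain ⟨n, hn⟩ := IsPGroup.iff_card.1 h2
  refine ⟨n, ?_⟩
  rw [← hn, ← SetLike.coe_sort_coe, Nat.card_coe_set_eq, hE,
    Set.ncard_insert_of_notMem (fun h1 => h.pt.ne_one 1 h1.1 rfl)]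

theorem IsMinBad.swapper_not_commute (hz : z ∈ D) (hw : w ∈ D) (hzw : ¬ Commute z w)
    (hx : x ∈ swappers D z w) : ¬ Commute x z := fun hc => by
  have := hx.2
  rw [commute_left_conj hc] at this
  exact hzw this.symm

theorem IsMinBad.ncard_swappers (hz : z ∈ D) (hw : w ∈ D) (hzw : ¬ Commute z w) :
    (swappers D z w).ncard = (block D w).ncard := by
  refine Set.ncard_congr (fun x _ => x * z * x⁻¹) ?_ ?_ ?_
  · exact fun x hx => ⟨h.pt.conj_mem x z hz, hx.2.symm⟩
  · intro a b ha hb hab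
    by_contra hne
    have hc : Commute z (b * a) := by
      refine (mul_inv_eq_iff_eq_mul.1 ?_).symm
      calc b * a * z * (b * a)⁻¹ = b * (a * z * a⁻¹) * b⁻¹ := by group
        _ = b * (b * z * b⁻¹) * b⁻¹ := by rw [show a * z * a⁻¹ = b * z * b⁻¹ from hab]
        _ = (b * b) * z * (b * b)⁻¹ := by group
        _ = z := by rw [h.pt.inv b hb.1, one_mul, inv_one, mul_one]
    by_cases hab' : Commute b a
    · exact h.swapper_not_commute hz hw hzw ha
        (h.pt.commute_right hb.1 ha.1 hab' (Ne.symm hne) hz hc).symm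
    · exact h.not_commute_rot hb.1 ha.1 hz hab' hc
  · intro w' hw'
    have hzw' : ¬ Commute z w' := fun h' => hzw (h.trans_commute hz hw'.1 hw h' hw'.2)
    obtain ⟨m, hm, hm', -⟩ := h.pt.exists_middle hz hw'.1 hzw'
    exact ⟨m, ⟨hm, hm' ▸ hw'.2.symm⟩, hm'⟩

theorem IsMinBad.swappers_symm (hx : x ∈ swappers D z w) :
    Commute z (x * w * x⁻¹) := by
  have h1 := (commute_conj_iff x _ _).2 hx.2
  rw [show x * (x * z * x⁻¹) * x⁻¹ = (x * x) * z * (x * x)⁻¹ by group, h.pt.inv x hx.1, one_mul,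
    inv_one, mul_one] at h1
  exact h1.symm

theorem IsMinBad.swappers_pairwise (hz : z ∈ D) (hw : w ∈ D) (hzw : ¬ Commute z w)
    (hx : x ∈ swappers D z w) (hy : y ∈ swappers D z w) (hne : x ≠ y) : ¬ Commute x y := by
  intro hxy
  have hu := h.mul_mem hx.1 hy.1 hxy hne
  have h1 : Commute z ((x * y) * z * (x * y)⁻¹) := by
    have e1 := (commute_conj_iff x _ _).2 hy.2
    rw [show x * (y * z * y⁻¹) * x⁻¹ = (x * y) * z * (x * y)⁻¹ by group] at e1
    exact h.trans_commute hz (h.pt.conj_mem x w hw) (h.pt.conj_mem _ z hz) (h.swappers_symm hx) e1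
  by_cases h2 : Commute z (x * y)
  · exact h.swapper_not_commute hz hw hzw hx (h.pt.commute_left hx.1 hy.1 hxy hne hz h2).symm
  · exact h.pt.not_commute_conj hz hu h2 h1

theorem IsMinBad.swappers_conj (hz : z ∈ D) (hw : w ∈ D) (hx : x ∈ swappers D z w)
    (hy : y ∈ swappers D z w) : x * y * x⁻¹ ∈ swappers D z w := by
  refine ⟨h.pt.conj_mem x y hy.1, ?_⟩
  have h2 : Commute z (y * (x * z * x⁻¹) * y⁻¹) :=
    h.trans_commute hz (h.pt.conj_mem y w hw) (h.pt.conj_mem y _ (h.pt.conj_mem x z hz))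
      (h.swappers_symm hy) ((commute_conj_iff y _ _).2 hx.2)
  have h3 := (commute_conj_iff x _ _).2 h2
  have e : x * (y * (x * z * x⁻¹) * y⁻¹) * x⁻¹ = x * y * x⁻¹ * z * (x * y * x⁻¹)⁻¹ := by
    simp only [mul_inv_rev, inv_inv, h.pt.inv_eq hx.1, mul_assoc]
  rw [e] at h3
  exact h.trans_commute hw (h.pt.conj_mem x z hz) (h.pt.conj_mem _ z hz) hx.2 h3

omit h in
theorem smul_eq_of_zpowers {α : Type*} [MulAction G α] {a : G} {B : α} (ha : a • B = B)
    (g : Subgroup.zpowers a) : g • B = B :=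
  MulAction.mem_stabilizer_iff.1
    ((Subgroup.zpowers_le (H := MulAction.stabilizer G B)).2 (MulAction.mem_stabilizer_iff.2 ha) g.2)

theorem IsMinBad.mem_rot (a : G) (hx : x ∈ D) (hxa : x * a * x⁻¹ = a⁻¹) (hy : y ∈ D)
    (hya : y * a * y⁻¹ = a⁻¹) : (x * y * x⁻¹) * a * (x * y * x⁻¹)⁻¹ = a⁻¹ := by
  calc (x * y * x⁻¹) * a * (x * y * x⁻¹)⁻¹ = x * (y * (x⁻¹ * a * x) * y⁻¹) * x⁻¹ := by group
    _ = x * (y * a⁻¹ * y⁻¹) * x⁻¹ := by
        rw [show x⁻¹ * a * x = a⁻¹ by rw [h.pt.inv_eq hx]; rw [h.pt.inv_eq hx] at hxa; exact hxa]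
    _ = a⁻¹ := by rw [← conj_inv, hya, inv_inv, hxa]

theorem IsMinBad.false_of_five (hp5 : 5 ≤ p) : False := by
  classical
  have hp := h.pt.prime
  have : Fact p.Prime := ⟨hp⟩
  obtain ⟨d, e, f, hbad⟩ := id h.exists_bad
  obtain ⟨hd, he, hf, hde, hne, hfd, hfe, -⟩ := id hbad
  obtain ⟨N, hN⟩ : ∃ N, N = (block D d).ncard := ⟨_, rfl⟩
  have hblk : ∀ z ∈ D, (block D z).ncard = N := fun z hz => hN ▸ h.ncard_block hz hd
  have hswap : ∀ z ∈ D, ∀ w ∈ D, ¬ Commute z w → (swappers D z w).ncard = N :=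
    fun z hz w hw hzw => (h.ncard_swappers hz hw hzw).trans (hblk w hw)
  have hN3 : 2 ≤ N := by
    rw [hN, ← Set.ncard_pair hne]
    refine Set.ncard_le_ncard ?_ (Set.toFinite _)
    rintro t (rfl | rfl)
    · exact ⟨hd, Commute.refl _⟩
    · exact ⟨he, hde.symm⟩
  have hNp : N = p := by
    obtain ⟨j, hj⟩ := ncard_pow_of_odd_products hp h.pt.odd (S := swappers D d f)
      (Set.nonempty_of_ncard_ne_zero (by rw [hswap d hd f hf fun h' => hfd h'.symm]; omega))
      (fun x hx => Involution.orderOf_eq_two_iff'.2 ⟨h.pt.inv x hx.1, h.pt.ne_one x hx.1⟩)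
      (fun x hx y hy => h.swappers_conj hd hf hx hy)
      (fun x hx y hy hxy => h.pt.ord hx.1 hy.1
        (h.swappers_pairwise hd hf (fun h' => hfd h'.symm) hx hy hxy))
    rw [hswap d hd f hf fun h' => hfd h'.symm] at hj
    obtain ⟨n, hn⟩ := h.ncard_block_succ hd
    rw [← hN, hj] at hn
    have hj1 : 1 ≤ j := by
      by_contra hc
      rw [show j = 0 by omega, pow_zero] at hj
      omega
    rw [hj, eq_one_of_pow_add_one h.pt.odd (by omega) hj1 hn, pow_one]
  subst hNp
  have hpg : ∀ a : G, a ^ N = 1 → IsPGroup N ↥(Subgroup.zpowers a) := fun a ha => by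
    obtain ⟨i, -, hi⟩ := (Nat.dvd_prime_pow hp).1
      (show orderOf a ∣ N ^ 1 by rw [pow_one]; exact orderOf_dvd_of_pow_eq_one ha)
    exact IsPGroup.of_card (n := i) (by rw [Nat.card_zpowers, hi])
  -- a rotation fixing no block
  have hdvd : N ∣ Nat.card h.Blk := by
    have hfree : ∃ y ∈ D, ¬ Commute d y ∧ ∀ B : h.Blk, (d * y) • B ≠ B := by
      by_contra hc
      push_neg at hc
      obtain ⟨A, hA⟩ : ∃ A : Finset G, A = (Set.toFinite {y | y ∈ D ∧ ¬ Commute d y}).toFinset :=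
        ⟨_, rfl⟩
      have hmemA : ∀ y, y ∈ A ↔ y ∈ D ∧ ¬ Commute d y := fun y => by rw [hA]; simp
      let r : G → G → Prop := fun y z =>
        y ≠ d ∧ Commute (d * z * d⁻¹) (y * z * y⁻¹)
      have key : A.card * N ≤ A.card * (N - 1) := by
        refine Finset.card_mul_le_card_mul r (fun y hy => ?_) (fun z hz => ?_)
        · obtain ⟨hyD, hdy⟩ := (hmemA y).1 hy
          obtain ⟨B, hB⟩ := hc y hyD hdy
          obtain ⟨z, hz, rfl⟩ := h.exists_bl B
          rw [h.smul_bl, h.bl_eq] at hB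
          have hstep : ∀ z' ∈ D, Commute z' z →
              Commute (d * z' * d⁻¹) (y * z' * y⁻¹) := by
            intro z' hz' hzz'
            have h1 := h.trans_commute (h.pt.conj_mem _ z' hz') (h.pt.conj_mem _ z hz) hz
              ((commute_conj_iff (d * y) z' z).2 hzz') hB
            have h2 := h.trans_commute (h.pt.conj_mem _ z' hz') hz hz' h1 hzz'.symm
            have h3 := (commute_conj_iff d _ _).2 h2
            rw [show d * (d * y * z' * (d * y)⁻¹) * d⁻¹ = (d * d) * (y * z' * y⁻¹) * (d * d)⁻¹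
              by group, h.pt.inv d hd, one_mul, inv_one, mul_one] at h3
            exact h3.symm
          have hsub : (Set.toFinite (block D z)).toFinset ⊆ A.bipartiteAbove r y := by
            intro z' hz'
            rw [Set.Finite.mem_toFinset] at hz'
            have h4 := hstep z' hz'.1 hz'.2
            rw [Finset.mem_bipartiteAbove, hmemA]
            refine ⟨⟨hz'.1, fun hdz => hdy ?_⟩, fun hyd => hdy (hyd ▸ Commute.refl d), h4⟩
            rw [commute_left_conj hdz] at h4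
            by_contra hdy'
            by_cases hyz : Commute y z'
            · exact hdy (h.trans_commute hd hz'.1 hyD hdz hyz.symm)
            · exact h.pt.not_commute_conj hz'.1 hyD (fun h' => hyz h'.symm) h4
          have := Finset.card_le_card hsub
          rwa [← Set.ncard_eq_toFinset_card _, hblk z hz] at this
        · obtain ⟨hzD, hdz⟩ := (hmemA z).1 hz
          have hsub : A.bipartiteBelow r z ⊆
              ((Set.toFinite (swappers D z (d * z * d⁻¹))).toFinset).erase d := by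
            intro y hy
            rw [Finset.mem_bipartiteBelow, hmemA] at hy
            rw [Finset.mem_erase, Set.Finite.mem_toFinset]
            exact ⟨hy.2.1, hy.1.1, hy.2.2⟩
          refine (Finset.card_le_card hsub).trans ?_
          rw [Finset.card_erase_of_mem (by
            rw [Set.Finite.mem_toFinset]; exact ⟨hd, Commute.refl _⟩),
            ← Set.ncard_eq_toFinset_card _,
            hswap z hzD _ (h.pt.conj_mem d z hzD)
              (h.pt.not_commute_conj hzD hd fun h' => hdz h'.symm)]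
      have hA0 : 0 < A.card := Finset.card_pos.2 ⟨f, (hmemA f).2 ⟨hf, fun h' => hfd h'.symm⟩⟩
      have := Nat.le_of_mul_le_mul_left key hA0
      omega
    obtain ⟨y, hy, hdy, hfree⟩ := hfree
    have h1 := (hpg _ (h.pt.pow_p hd hy hdy)).card_modEq_card_fixedPoints (α := h.Blk)
    have h0 : MulAction.fixedPoints ↥(Subgroup.zpowers (d * y)) h.Blk = ∅ :=
      Set.eq_empty_iff_forall_notMem.2 fun B hB =>
        hfree B (hB ⟨d * y, Subgroup.mem_zpowers _⟩)
    rw [h0, Nat.card_coe_set_eq, Set.ncard_empty] at h1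
    exact Nat.modEq_zero_iff_dvd.1 h1
  -- a rotation fixing some block
  have hdf : ¬ Commute d f := fun h' => hfd h'.symm
  obtain ⟨x₁, x₂, hx₁, hx₂, hx12⟩ := (Set.one_lt_ncard_iff (Set.toFinite _)).1
    (show 1 < (swappers D d f).ncard by rw [hswap d hd f hf hdf]; omega)
  have hrot : ¬ Commute x₁ x₂ := h.swappers_pairwise hd hf hdf hx₁ hx₂ hx12
  obtain ⟨a, ha⟩ : ∃ a, a = x₁ * x₂ := ⟨_, rfl⟩
  have hap : a ^ N = 1 := ha ▸ h.pt.pow_p hx₁.1 hx₂.1 hrot
  have haord : orderOf a = N := ha ▸ h.pt.ord hx₁.1 hx₂.1 hrot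
  have hafpf : ∀ z ∈ D, ¬ Commute z a := fun z hz =>
    ha ▸ h.not_commute_rot hx₁.1 hx₂.1 hz hrot
  obtain ⟨F, hF⟩ : ∃ F : Finset h.Blk, F = (Set.toFinite {B : h.Blk | a • B = B}).toFinset :=
    ⟨_, rfl⟩
  have hmemF : ∀ B, B ∈ F ↔ a • B = B := fun B => by rw [hF]; simp
  have hFdvd : N ∣ F.card := by
    have h1 := (hpg a hap).card_modEq_card_fixedPoints (α := h.Blk)
    have h0 : MulAction.fixedPoints ↥(Subgroup.zpowers a) h.Blk = {B | a • B = B} := by
      ext B
      exact ⟨fun hB => hB ⟨a, Subgroup.mem_zpowers a⟩, fun hB g => smul_eq_of_zpowers hB g⟩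
    rw [h0, Nat.card_coe_set_eq, Set.ncard_eq_toFinset_card _ (Set.toFinite _), ← hF] at h1
    exact Nat.modEq_zero_iff_dvd.1 (h1.symm.trans (Nat.modEq_zero_iff_dvd.2 hdvd))
  have hF0 : F.Nonempty := by
    refine ⟨h.bl hd, (hmemF _).2 ?_⟩
    rw [ha, mul_smul]
    have e1 : x₂ • h.bl hd = h.bl hf := h.bl_eq.2 hx₂.2.symm
    have e2 : x₁ • h.bl hf = h.bl hd := h.bl_eq.2 (h.swappers_symm hx₁).symm
    rw [e1, e2]
  by_cases hA : ∀ B ∈ F, ∀ B' ∈ F, B ≠ B' → ∀ x ∈ D, x • B = B' → x * a * x⁻¹ = a⁻¹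
  · -- every interchanging member inverts `a`
    obtain ⟨X, hX⟩ : ∃ X : Finset G,
        X = (Set.toFinite {x | x ∈ D ∧ x * a * x⁻¹ = a⁻¹}).toFinset := ⟨_, rfl⟩
    have hmemX : ∀ x, x ∈ X ↔ x ∈ D ∧ x * a * x⁻¹ = a⁻¹ := fun x => by rw [hX]; simp
    have hXF : ∀ x ∈ X, ∀ B ∈ F, x • B ∈ F ∧ x • B ≠ B := by
      intro x hx B hB
      obtain ⟨hxD, hxa⟩ := (hmemX x).1 hx
      rw [hmemF] at hB
      have hax : x * a⁻¹ = a * x :=
        mul_inv_eq_iff_eq_mul.1 (by rw [← conj_inv, hxa, inv_inv])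
      refine ⟨(hmemF _).2 ?_, fun hxB => ?_⟩
      · rw [← mul_smul, ← hax, mul_smul, inv_smul_eq_iff.2 hB.symm]
      obtain ⟨z, hz, rfl⟩ := h.exists_bl B
      rw [h.smul_bl, h.bl_eq] at hxB
      have hxz : Commute z x := by
        by_contra h'
        exact h.pt.not_commute_conj hz hxD h' hxB.symm
      rw [h.smul_bl, h.bl_eq] at hB
      have h1 : Commute x (a * x * a⁻¹) :=
        h.trans_commute hxD hz (h.pt.conj_mem a x hxD) hxz.symm
          (h.trans_commute hz (h.pt.conj_mem a z hz) (h.pt.conj_mem a x hxD) hB.symm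
            ((commute_conj_iff a z x).2 hxz))
      rw [← hax, mul_assoc] at h1
      have h2 : Commute x (a⁻¹ * a⁻¹) := by
        have := (Commute.refl x).mul_right h1
        rwa [← mul_assoc, h.pt.inv x hxD, one_mul] at this
      have h3 : Commute x a⁻¹ := by
        obtain ⟨k, hk⟩ := h.pt.odd
        have e : (a⁻¹ * a⁻¹) ^ (k + 1) = a⁻¹ := by
          rw [← pow_two, ← pow_mul, show 2 * (k + 1) = N + 1 by omega, pow_succ, inv_pow, hap,
            inv_one, one_mul]
        exact e ▸ h2.pow_right (k + 1)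
      exact hafpf x hxD (inv_inv a ▸ h3.inv_right)
    have hcount : X.card * F.card = (F.card * F.card - F.card) * N := by
      rw [← Finset.card_product, ← Finset.offDiag_card]
      rw [Finset.card_eq_sum_card_fiberwise (f := fun q : G × h.Blk => (q.2, q.1 • q.2))
        (t := F.offDiag) (fun q hq => by
          rw [Finset.mem_coe, Finset.mem_product] at hq
          rw [Finset.mem_coe, Finset.mem_offDiag]
          exact ⟨hq.2, (hXF _ hq.1 _ hq.2).1, (hXF _ hq.1 _ hq.2).2.symm⟩)]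
      refine Finset.sum_const_nat fun q hq => ?_
      obtain ⟨B, B'⟩ := q
      rw [Finset.mem_offDiag] at hq
      obtain ⟨z, hz, rfl⟩ := h.exists_bl B
      obtain ⟨w, hw, rfl⟩ := h.exists_bl B'
      have hzw : ¬ Commute z w := fun h' => hq.2.2 (h.bl_eq.2 h')
      refine Eq.trans ?_ (hswap z hz w hw hzw)
      rw [Set.ncard_eq_toFinset_card _ (Set.toFinite _)]
      refine Finset.card_bij (fun q _ => q.1) ?_ ?_ ?_
      · intro q hq'
        rw [Finset.mem_filter, Finset.mem_product] at hq'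
        obtain ⟨⟨hqX, -⟩, he'⟩ := hq'
        obtain ⟨he1, he2⟩ := Prod.mk.inj he'
        rw [Set.Finite.mem_toFinset]
        rw [he1] at he2
        rw [h.smul_bl, h.bl_eq] at he2
        exact ⟨((hmemX _).1 hqX).1, he2.symm⟩
      · intro q hq' q' hq'' hqq
        rw [Finset.mem_filter] at hq' hq''
        exact Prod.ext hqq ((Prod.mk.inj hq'.2).1.trans (Prod.mk.inj hq''.2).1.symm)
      · intro x hx
        rw [Set.Finite.mem_toFinset] at hx
        have hxB : x • h.bl hz = h.bl hw := h.bl_eq.2 hx.2.symm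
        refine ⟨(x, h.bl hz), ?_, rfl⟩
        rw [Finset.mem_filter, Finset.mem_product, hmemX]
        exact ⟨⟨⟨hx.1, hA _ hq.1 _ hq.2.1 hq.2.2 x hx.1 hxB⟩, hq.1⟩, by rw [hxB]⟩
    have hXcard : X.card = (F.card - 1) * N := by
      refine Nat.eq_of_mul_eq_mul_right hF0.card_pos ?_
      rw [hcount, ← Nat.sub_one_mul]
      ring
    have hF2 : 2 ≤ F.card := by
      have := Nat.le_of_dvd hF0.card_pos hFdvd
      omega
    obtain ⟨j, hj⟩ := ncard_pow_of_odd_products hp h.pt.odd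
      (S := {x | x ∈ D ∧ x * a * x⁻¹ = a⁻¹})
      (Set.nonempty_of_ncard_ne_zero (by
        rw [Set.ncard_eq_toFinset_card _ (Set.toFinite _), ← hX, hXcard]
        exact Nat.mul_ne_zero (by omega) hp.ne_zero))
      (fun x hx => Involution.orderOf_eq_two_iff'.2 ⟨h.pt.inv x hx.1, h.pt.ne_one x hx.1⟩)
      (fun x hx y hy => ⟨h.pt.conj_mem x y hy.1, h.mem_rot a hx.1 hx.2 hy.1 hy.2⟩)
      (fun x hx y hy hxy => h.pt.ord hx.1 hy.1 fun hc => by
        refine hafpf _ (h.mul_mem hx.1 hy.1 hc hxy) ?_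
        refine mul_inv_eq_iff_eq_mul.1 ?_
        calc x * y * a * (x * y)⁻¹ = x * (y * a * y⁻¹) * x⁻¹ := by group
          _ = a := by rw [hy.2, ← conj_inv, hx.2, inv_inv])
    rw [Set.ncard_eq_toFinset_card _ (Set.toFinite _), ← hX, hXcard] at hj
    match j with
    | 0 =>
      rw [pow_zero] at hj
      have := Nat.eq_one_of_mul_eq_one_left hj
      omega
    | 1 =>
      rw [pow_one] at hj
      have h1 : F.card - 1 = 1 := by
        nlinarith [hp.two_le]
      rw [show F.card = 2 by omega] at hFdvd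
      have := Nat.le_of_dvd two_pos hFdvd
      omega
    | j + 2 =>
      rw [pow_succ] at hj
      have h1 : F.card - 1 = N ^ (j + 1) := Nat.eq_of_mul_eq_mul_right hp.pos hj
      have h2 : N ∣ F.card - 1 := h1 ▸ dvd_pow_self N (by omega)
      have h3 := Nat.dvd_sub hFdvd h2
      rw [show F.card - (F.card - 1) = 1 by omega] at h3
      exact hp.one_lt.ne' (Nat.dvd_one.1 h3)
  push_neg at hA
  obtain ⟨B₁, hB₁, B₃, hB₃, hB13, x, hxD, hxB, hxa⟩ := hA
  obtain ⟨z, hz, rfl⟩ := h.exists_bl B₁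
  obtain ⟨w, hw, rfl⟩ := h.exists_bl B₃
  have hzw : ¬ Commute z w := fun h' => hB13 (h.bl_eq.2 h')
  rw [hmemF] at hB₁ hB₃
  rw [h.smul_bl, h.bl_eq] at hxB
  have hxS : x ∈ swappers D z w := ⟨hxD, hxB.symm⟩
  have hSconj : ∀ t ∈ swappers D z w, a * t * a⁻¹ ∈ swappers D z w := by
    intro t ht
    refine ⟨h.pt.conj_mem a t ht.1, ?_⟩
    have e1 : (a * t * a⁻¹) • h.bl hz = h.bl hw := by
      rw [mul_smul, mul_smul, inv_smul_eq_iff.2 hB₁.symm,
        show t • h.bl hz = h.bl hw from h.bl_eq.2 ht.2.symm, hB₃]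
    rw [h.smul_bl, h.bl_eq] at e1
    exact e1.symm
  obtain ⟨x', hx'⟩ : ∃ x', x' = a * x * a⁻¹ := ⟨_, rfl⟩
  have hx'S : x' ∈ swappers D z w := hx' ▸ hSconj x hxS
  have hxx' : x ≠ x' := fun h' => hafpf x hxD
    (mul_inv_eq_iff_eq_mul.1 (hx' ▸ h'.symm)).symm
  have hnc := h.swappers_pairwise hz hw hzw hxS hx'S hxx'
  obtain ⟨b, hb⟩ : ∃ b, b = x * x' := ⟨_, rfl⟩
  have hbord : orderOf b = N := hb ▸ h.pt.ord hxD hx'S.1 hnc
  have hbp : b ^ N = 1 := hbord ▸ pow_orderOf_eq_one b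
  have hbx : x * b * x⁻¹ = b⁻¹ :=
    hb ▸ Involution.inverts_mul (h.pt.inv x hxD) (h.pt.inv x' hx'S.1)
  have hline : ∀ i : ℕ, x * b ^ i ∈ swappers D z w ∧ x * b ^ (i + 1) ∈ swappers D z w := by
    intro i
    induction i with
    | zero =>
      refine ⟨by rwa [pow_zero, mul_one], ?_⟩
      rwa [zero_add, pow_one, hb, ← mul_assoc, h.pt.inv x hxD, one_mul]
    | succ i ih =>
      refine ⟨ih.2, ?_⟩
      have h1 := h.swappers_conj hz hw ih.2 ih.1
      convert h1 using 1
      have e : ∀ k : ℕ, x * b ^ k * x = (b ^ k)⁻¹ := fun k => by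
        have := congrArg (· ^ k) hbx
        rw [conj_pow, inv_pow] at this
        rwa [h.pt.inv_eq hxD] at this
      calc x * b ^ (i + 1 + 1) = (x * x) * (x * b ^ (i + 1 + 1)) := by
            rw [h.pt.inv x hxD, one_mul]
        _ = x * b ^ (i + 1) * (b ^ i)⁻¹ * b ^ (i + 1) := by
            rw [h.pt.inv x hxD, one_mul, mul_assoc, mul_assoc]
            congr 1
            group
        _ = x * b ^ (i + 1) * (x * b ^ i) * (x * b ^ (i + 1)) := by
            rw [← e i]; simp only [mul_assoc]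
        _ = _ := by rw [h.pt.inv_eq ih.2.1]
  have hall : ∀ t ∈ swappers D z w, ∃ i : ℕ, t = x * b ^ i := by
    intro t ht
    have hinj : Set.InjOn (fun i : ℕ => x * b ^ i) (Set.Iio N) := by
      intro i hi j hj hij
      exact pow_injOn_Iio_orderOf (x := b) (hbord.symm ▸ hi) (hbord.symm ▸ hj)
        (mul_left_cancel hij)
    have heq : (fun i : ℕ => x * b ^ i) '' Set.Iio N = swappers D z w := by
      refine Set.eq_of_subset_of_ncard_le (Set.image_subset_iff.2 fun i _ => (hline i).1) ?_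
      rw [hswap z hz w hw hzw, Set.ncard_image_of_injOn hinj, ← Finset.coe_Iio,
        Set.ncard_coe_finset, Nat.card_Iio]
    rw [← heq] at ht
    obtain ⟨i, -, rfl⟩ := ht
    exact ⟨i, rfl⟩
  have hab : Commute a b := by
    obtain ⟨i, hi⟩ := hall _ (hSconj x' hx'S)
    refine commute_of_normalize hp hap hbord (t := ((i : ℤ) - 1)) ?_
    rw [hb, ← conj_mul, ← hx', hi, ← mul_assoc]
    have e1 : x' * x = b⁻¹ := by
      rw [hb, mul_inv_rev, h.pt.inv_eq hxD, h.pt.inv_eq hx'S.1]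
    rw [e1, ← zpow_natCast, ← zpow_neg_one, ← zpow_add, hb, neg_add_eq_sub]
  have hbne : ∀ k : ℕ, b ≠ a ^ k := by
    intro k hk
    apply hxa
    obtain ⟨m, hm⟩ : ∃ m : ℤ, a = b ^ m := by
      have hle : Subgroup.zpowers b ≤ Subgroup.zpowers a :=
        Subgroup.zpowers_le.2 (hk ▸ Subgroup.npow_mem_zpowers a k)
      have heq : Subgroup.zpowers b = Subgroup.zpowers a := Subgroup.eq_of_le_of_card_ge hle
        (by rw [Nat.card_zpowers, Nat.card_zpowers, hbord, haord])
      obtain ⟨m, hm⟩ := Subgroup.mem_zpowers_iff.1 (heq.symm ▸ Subgroup.mem_zpowers a)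
      exact ⟨m, hm.symm⟩
    rw [hm, ← conj_zpow, hbx, inv_zpow]
  -- the group generated by the two rotations
  have hbB₁ : b • h.bl hz = h.bl hz := by
    rw [hb, mul_smul, show x' • h.bl hz = h.bl hw from h.bl_eq.2 hx'S.2.symm]
    exact h.bl_eq.2 (h.swappers_symm hxS).symm
  have hP : IsPGroup N ↥(Subgroup.zpowers a ⊔ Subgroup.zpowers b) := by
    refine IsPGroup.to_sup_of_normal_right' (hpg a hap) (hpg b hbp) (Subgroup.zpowers_le.2 ?_)
    refine Subgroup.centralizer_le_normalizer _ (Subgroup.mem_centralizer_iff.2 fun t ht => ?_)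
    obtain ⟨m, rfl⟩ := Subgroup.mem_zpowers_iff.1 ht
    exact (hab.zpow_right m).symm.eq
  obtain ⟨F₀, hF₀⟩ : ∃ F₀ : Finset h.Blk,
      F₀ = (Set.toFinite {B : h.Blk | a • B = B ∧ b • B = B}).toFinset := ⟨_, rfl⟩
  have hmem₀ : ∀ B, B ∈ F₀ ↔ a • B = B ∧ b • B = B := fun B => by rw [hF₀]; simp
  have hdvd₀ : N ∣ F₀.card := by
    have h1 := hP.card_modEq_card_fixedPoints (α := h.Blk)
    have h0 : MulAction.fixedPoints ↥(Subgroup.zpowers a ⊔ Subgroup.zpowers b) h.Blk
        = {B | a • B = B ∧ b • B = B} := by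
      ext B
      refine ⟨fun hB => ⟨hB ⟨a, Subgroup.mem_sup_left (Subgroup.mem_zpowers a)⟩,
        hB ⟨b, Subgroup.mem_sup_right (Subgroup.mem_zpowers b)⟩⟩, fun hB g => ?_⟩
      have hle : Subgroup.zpowers a ⊔ Subgroup.zpowers b ≤ MulAction.stabilizer G B :=
        sup_le (Subgroup.zpowers_le.2 (MulAction.mem_stabilizer_iff.2 hB.1))
          (Subgroup.zpowers_le.2 (MulAction.mem_stabilizer_iff.2 hB.2))
      exact MulAction.mem_stabilizer_iff.1 (hle g.2)
    rw [h0, Nat.card_coe_set_eq, Set.ncard_eq_toFinset_card _ (Set.toFinite _), ← hF₀] at h1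
    exact Nat.modEq_zero_iff_dvd.1 (h1.symm.trans (Nat.modEq_zero_iff_dvd.2 hdvd))
  have hk : ∀ B ∈ F₀, ∃ k, k ∈ Finset.Ico 1 N ∧
      ∃ (t : G) (ht : t ∈ D), h.bl ht = B ∧ Commute ((a ^ k)⁻¹ * b) t := by
    intro B hB
    obtain ⟨t, ht, rfl⟩ := h.exists_bl B
    rw [hmem₀, h.smul_bl, h.smul_bl, h.bl_eq, h.bl_eq] at hB
    have hpow : ∀ i : ℕ, a ^ i * t * (a ^ i)⁻¹ ∈ block D t := by
      intro i
      induction i with
      | zero => simpa using (show t ∈ block D t from ⟨ht, Commute.refl t⟩)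
      | succ i ih =>
        refine ⟨h.pt.conj_mem _ t ht, ?_⟩
        have h1 := (commute_conj_iff a _ _).2 ih.2
        rw [show a * (a ^ i * t * (a ^ i)⁻¹) * a⁻¹ = a ^ (i + 1) * t * (a ^ (i + 1))⁻¹ by
          rw [pow_succ']; group] at h1
        exact h.trans_commute (h.pt.conj_mem _ t ht) (h.pt.conj_mem a t ht) ht h1 hB.1
    have hinj : Set.InjOn (fun i : ℕ => a ^ i * t * (a ^ i)⁻¹) (Set.Iio N) := by
      have key : ∀ i j : ℕ, i < j → j < N →
          a ^ i * t * (a ^ i)⁻¹ ≠ a ^ j * t * (a ^ j)⁻¹ := by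
        intro i j hij hj heq
        have h1 : Commute (a ^ (j - i)) t := by
          have e : a ^ j = a ^ i * a ^ (j - i) := by rw [← pow_add]; congr 1; omega
          rw [e] at heq
          have : t = a ^ (j - i) * t * (a ^ (j - i))⁻¹ := by
            rw [← mul_left_inj ((a ^ i)⁻¹)]
            simpa [mul_assoc] using heq
          exact mul_inv_eq_iff_eq_mul.1 this.symm
        have hco : Nat.Coprime (j - i) N :=
          ((hp.coprime_iff_not_dvd).2 fun hd' => by
            have := Nat.le_of_dvd (by omega) hd'; omega).symm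
        obtain ⟨m, hm⟩ := exists_pow_eq_self_of_coprime (n := j - i) (x := a) (haord ▸ hco)
        exact hafpf t ht (hm ▸ h1.pow_left m).symm
      intro i hi j hj hij
      by_contra hne'
      rcases lt_or_gt_of_ne hne' with hlt | hlt
      · exact key i j hlt hj hij
      · exact key j i hlt hi hij.symm
    have heq : (fun i : ℕ => a ^ i * t * (a ^ i)⁻¹) '' Set.Iio N = block D t := by
      refine Set.eq_of_subset_of_ncard_le (Set.image_subset_iff.2 fun i _ => hpow i) ?_
      rw [hblk t ht, Set.ncard_image_of_injOn hinj, ← Finset.coe_Iio, Set.ncard_coe_finset,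
        Nat.card_Iio]
    have hbt : b * t * b⁻¹ ∈ block D t := ⟨h.pt.conj_mem b t ht, hB.2⟩
    rw [← heq] at hbt
    obtain ⟨k, hkN, hk⟩ := hbt
    rw [Set.mem_Iio] at hkN
    change a ^ k * t * (a ^ k)⁻¹ = b * t * b⁻¹ at hk
    refine ⟨k, Finset.mem_Ico.2 ⟨?_, hkN⟩, t, ht, rfl, ?_⟩
    · by_contra hk0
      rw [show k = 0 by omega, pow_zero, one_mul, inv_one, mul_one] at hk
      exact h.not_commute_rot hxD hx'S.1 ht hnc (hb ▸ (mul_inv_eq_iff_eq_mul.1 hk.symm).symm)
    · refine mul_inv_eq_iff_eq_mul.1 ?_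
      calc (a ^ k)⁻¹ * b * t * ((a ^ k)⁻¹ * b)⁻¹ = (a ^ k)⁻¹ * (b * t * b⁻¹) * a ^ k := by group
        _ = t := by rw [← hk]; group
  choose! k hkmem hk' using hk
  have hcard : F₀.card ≤ (Finset.Ico 1 N).card := by
    refine Finset.card_le_card_of_injOn k (fun B hB => hkmem B hB) ?_
    intro B hB B' hB' hkk
    obtain ⟨t, ht, rfl, hc⟩ := hk' B hB
    obtain ⟨t', ht', rfl, hc'⟩ := hk' B' hB'
    rw [← hkk] at hc'
    by_contra hne'
    have hB1 := ((hmem₀ _).1 hB).1
    rw [h.smul_bl, h.bl_eq] at hB1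
    have hca : Commute ((a ^ k (h.bl ht))⁻¹ * b) a :=
      ((Commute.pow_self a _).inv_left).mul_left hab.symm
    obtain ⟨c, hc0⟩ : ∃ c, c = (a ^ k (h.bl ht))⁻¹ * b := ⟨_, rfl⟩
    rw [← hc0] at hc hc' hca
    have h1 : c = 1 := by
      refine h.eq_one_of_triple ht (h.pt.conj_mem a t ht) ht' hB1.symm ?_ ?_ hc
        ((hca.mul_right hc).mul_right hca.inv_right) hc'
      · exact fun h' => hafpf t ht (mul_inv_eq_iff_eq_mul.1 h'.symm).symm
      · exact fun h' => hne' (h.bl_eq.2 h'.symm)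
    rw [hc0, inv_mul_eq_one] at h1
    exact hbne _ h1.symm
  have hF₀pos : 0 < F₀.card := Finset.card_pos.2 ⟨h.bl hz, (hmem₀ _).2 ⟨hB₁, hbB₁⟩⟩
  have := Nat.le_of_dvd hF₀pos hdvd₀
  rw [Nat.card_Ico] at hcard
  omega

end Cfsg.Agent.PTrans81
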