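import Cfsg.Agent.PTrans81.Counting

/-!
All triangles are good when `p ≥ 5`: a counterexample of least order would be a smallest group with
a bad triangle.
-/

set_option autoImplicit false

namespace Cfsg.Agent.PTrans81

universe u

theorem isPT_good_aux : ∀ (n : ℕ) (G : Type u) [Group G] [Finite G], Nat.card G = n →
    ∀ {p : ℕ} {D : Set G}, 5 ≤ p → IsPT p D → Good D := by
  intro n
  induction n using Nat.strong_induction_on with
  | _ n ih =>
    intro G _ _ hn p D hp5 hD d hd e he f hf hde hne hfd hfe
    by_contra hbad0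
    have hIH : ∀ (H : Type u) [Group H] [Finite H], Nat.card H < Nat.card G → ∀ (DH : Set H),
        IsPT p DH → ∀ a b c, ¬ IsBad DH a b c :=
      fun H _ _ hlt DH hH a b c ⟨ha, hb, hc, hab, hab', hca, hcb, hbad⟩ =>
        hbad (ih _ (hn ▸ hlt) H rfl hp5 hH a ha b hb c hc hab hab' hca hcb)
    refine IsMinBad.false_of_five (h := (⟨hD, ?_, ?_,
      ⟨d, e, f, hd, he, hf, hde, hne, hfd, hfe, hbad0⟩⟩ : IsMinBad p D)) hp5
    · intro a b c hb
      by_contra htop
      obtain ⟨H, hH⟩ : ∃ H, H = Subgroup.closure ({a, b, c} : Set G) := ⟨_, rfl⟩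
      rw [← hH] at htop
      have hlt : Nat.card H < Nat.card G := lt_of_le_of_ne
        (Nat.le_of_dvd Nat.card_pos H.card_subgroup_dvd_card)
        fun h => htop (Subgroup.eq_top_of_card_eq H h)
      have hcoe : ∀ x y : H, Commute x y ↔ Commute (x : G) (y : G) := fun x y => by
        simp only [Commute, SemiconjBy, Subtype.ext_iff, Subgroup.coe_mul]
      have hPT : IsPT p {x : H | (x : G) ∈ D} :=
        { inv := fun x hx => Subtype.ext (hD.inv _ hx)
          ne_one := fun x hx h => hD.ne_one _ hx (congrArg Subtype.val h)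
          conj_mem := fun g x hx => hD.conj_mem (g : G) _ hx
          prod := fun x hx y hy => (hD.prod _ hx _ hy).imp (hcoe x y).2 (fun h => by
            rwa [← Subgroup.orderOf_coe, Subgroup.coe_mul])
          prime := hD.prime
          odd := hD.odd }
      obtain ⟨ha, hb', hc, hab, hab', hca, hcb, hbad⟩ := hb
      have ma : a ∈ H := hH ▸ Subgroup.subset_closure (by simp)
      have mb : b ∈ H := hH ▸ Subgroup.subset_closure (by simp)
      have mc : c ∈ H := hH ▸ Subgroup.subset_closure (by simp)
      exact hIH H hlt _ hPT ⟨a, ma⟩ ⟨b, mb⟩ ⟨c, mc⟩ ⟨ha, hb', hc, (hcoe _ _).2 hab,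
        fun h => hab' (congrArg Subtype.val h), fun h => hca ((hcoe _ _).1 h),
        fun h => hcb ((hcoe _ _).1 h), fun h => hbad ((hcoe _ _).1 h)⟩
    · intro N hN hNxy
      by_contra hbot
      have hlt : Nat.card (G ⧸ N) < Nat.card G := by
        rw [N.card_eq_card_quotient_mul_card_subgroup]
        exact (Nat.lt_mul_iff_one_lt_right Nat.card_pos).2 ((Subgroup.one_lt_card_iff_ne_bot N).2 hbot)
      obtain ⟨q, hq⟩ : ∃ q : G →* G ⧸ N, q = QuotientGroup.mk' N := ⟨_, rfl⟩
      have hker : ∀ {x : G}, q x = 1 → x ∈ N := fun {x} h => by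
        rw [hq] at h; exact (QuotientGroup.eq_one_iff x).1 h
      have hnc : ∀ x ∈ D, ∀ y ∈ D, ¬ Commute x y → ¬ Commute (q x) (q y) := by
        intro x hx y hy hxy h
        refine hNxy x hx y hy hxy (hker ?_)
        have h2 : q (x * y) * q (x * y) = 1 := by
          rw [map_mul]
          exact mul_self_mul (by rw [← map_mul, hD.inv x hx, map_one])
            (by rw [← map_mul, hD.inv y hy, map_one]) h
        have hp : q (x * y) ^ p = 1 := by rw [← map_pow, hD.pow_p hx hy hxy, map_one]
        obtain ⟨k, hk⟩ := hD.odd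
        rwa [hk, pow_succ, pow_mul, pow_two, h2, one_pow, one_mul] at hp
      have hne1 : ∀ x ∈ D, ∀ y ∈ D, ¬ Commute x y → q x ≠ 1 := fun x hx y hy hxy h =>
        hnc x hx y hy hxy (h ▸ Commute.one_left _)
      have hPT : IsPT p {z | z ≠ 1 ∧ ∃ x ∈ D, q x = z} :=
        { inv := by
            rintro _ ⟨-, x, hx, rfl⟩
            rw [← map_mul, hD.inv x hx, map_one]
          ne_one := fun z hz => hz.1
          conj_mem := by
            rintro g _ ⟨hne', x, hx, rfl⟩
            obtain ⟨g, rfl⟩ : ∃ g₀, q g₀ = g := hq ▸ QuotientGroup.mk'_surjective N g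
            exact ⟨fun h => hne' (by rwa [mul_inv_eq_one, mul_eq_left] at h),
              g * x * g⁻¹, hD.conj_mem g x hx, by simp⟩
          prod := by
            rintro _ ⟨-, x, hx, rfl⟩ _ ⟨-, y, hy, rfl⟩
            by_cases hxy : Commute x y
            · exact Or.inl (hxy.map q)
            · refine Or.inr ?_
              rw [← map_mul]
              have hdvd : orderOf (q (x * y)) ∣ p :=
                (orderOf_map_dvd q _).trans (dvd_of_eq (hD.ord hx hy hxy))
              refine ((Nat.dvd_prime hD.prime).1 hdvd).resolve_left fun h => ?_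
              exact hNxy x hx y hy hxy (hker (orderOf_eq_one_iff.1 h))
          prime := hD.prime
          odd := hD.odd }
      have hfu : f * ((d * e) * f * (d * e)⁻¹) ∉ N :=
        hNxy f hf _ (hD.conj_mem _ f hf) hbad0
      refine hIH (G ⧸ N) hlt _ hPT (q d) (q e) (q f)
        ⟨⟨hne1 d hd f hf fun h => hfd h.symm, d, hd, rfl⟩,
          ⟨hne1 e he f hf fun h => hfe h.symm, e, he, rfl⟩, ⟨hne1 f hf d hd hfd, f, hf, rfl⟩,
          hde.map q, fun h => hfu ?_, hnc f hf d hd hfd, hnc f hf e he hfe, ?_⟩
      · refine hker ?_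
        have hu : q (d * e) = 1 := by rw [map_mul, h, ← map_mul, hD.inv e he, map_one]
        simp only [map_mul, map_inv] at hu ⊢
        rw [hu, one_mul, inv_one, mul_one, ← map_mul, hD.inv f hf, map_one]
      · rw [← map_mul, ← map_inv, ← map_mul, ← map_mul]
        exact hnc f hf _ (hD.conj_mem _ f hf) hbad0

/-- With `p ≥ 5`, a member moved by a product of two commuting members commutes with its image. -/
theorem isPT_good {G : Type u} [Group G] [Finite G] {p : ℕ} {D : Set G} (hp : 5 ≤ p)
    (hD : IsPT p D) : Good D :=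
  isPT_good_aux _ G rfl hp hD

end Cfsg.Agent.PTrans81
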