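import Cfsg.Prelude.Def_SporadicB
import Cfsg.Agent.PTrans81.Good
import Cfsg.Agent.PF14.Compose

/-!
A class of involutions of rank 3 in a group without solvable normal subgroups is a class of
3-transpositions.
-/

set_option autoImplicit false

namespace Cfsg.Agent.PTrans81

variable {G : Type*} [Group G] {D : Set G}

theorem line_mem (hinv : ∀ x ∈ D, x * x = 1) (hconj : ∀ g, ∀ x ∈ D, g * x * g⁻¹ ∈ D) {x y : G}
    (hx : x ∈ D) (hy : y ∈ D) : ∀ j : ℕ, x * (x * y) ^ j ∈ D := by
  suffices h : ∀ j : ℕ, x * (x * y) ^ j ∈ D ∧ x * (x * y) ^ (j + 1) ∈ D from fun j => (h j).1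
  intro j
  induction j with
  | zero =>
    exact ⟨by rwa [pow_zero, mul_one],
      by rwa [zero_add, pow_one, ← mul_assoc, hinv x hx, one_mul]⟩
  | succ j ih =>
    refine ⟨ih.2, ?_⟩
    have h1 := hconj (x * (x * y) ^ (j + 1)) _ ih.1
    rw [inv_eq_of_mul_eq_one_right (hinv _ ih.2)] at h1
    convert h1 using 1
    have e := Involution.left_mul_zpow_mul (hinv x hx) (hinv y hy) ((j + 1 : ℕ) : ℤ)
    rw [zpow_natCast, zpow_neg, zpow_natCast] at e
    calc x * (x * y) ^ (j + 1 + 1)
        = x * (x * y) ^ (j + 1) * ((x * y) ^ j)⁻¹ * (x * y) ^ (j + 1) := by group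
      _ = x * (x * y) ^ (j + 1) * (x * (x * y) ^ j) * (x * (x * y) ^ (j + 1)) := by
          have e' := Involution.left_mul_zpow_mul (hinv x hx) (hinv y hy) ((j : ℕ) : ℤ)
          rw [zpow_natCast, zpow_neg, zpow_natCast] at e'
          rw [← e']
          simp only [mul_assoc]

/-- The data of a class of rank 3. -/
structure IsRankThree (D : Set G) : Prop where
  inv : ∀ x ∈ D, x * x = 1
  ne_one : ∀ x ∈ D, x ≠ 1
  conj_mem : ∀ g, ∀ x ∈ D, g * x * g⁻¹ ∈ D
  trans : ∀ x ∈ D, ∀ y ∈ D, ∃ g, g * x * g⁻¹ = y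
  gen : Subgroup.closure D = ⊤
  sol : ∀ N : Subgroup G, N.Normal → Group.IsSolvable ↥N → N = ⊥
  rank : ∀ x ∈ D, ∀ a ∈ D, ∀ b ∈ D, ∀ c ∈ D, a ≠ x → b ≠ x → c ≠ x →
    ∃ g, Commute g x ∧ (g * a * g⁻¹ = b ∨ g * a * g⁻¹ = c ∨ g * b * g⁻¹ = c)

variable [Finite G] (hR : IsRankThree D)
include hR

theorem IsRankThree.not_central {x : G} (hx : x ∈ D) : ∃ y ∈ D, ¬ Commute x y := by
  by_contra hc
  push Not at hc
  have hz : x ∈ Subgroup.center G := by
    rw [Subgroup.mem_center_iff]
    intro g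
    have hle : (⊤ : Subgroup G) ≤ Subgroup.centralizer {x} := by
      rw [← hR.gen, Subgroup.closure_le]
      exact fun y hy => Subgroup.mem_centralizer_singleton_iff.2 (hc y hy).symm.eq
    exact Subgroup.mem_centralizer_singleton_iff.1 (hle (Subgroup.mem_top g))
  have hbot : Subgroup.center G = ⊥ :=
    hR.sol _ inferInstance (Group.isSolvable_of_comm fun a b => Subtype.ext (Subgroup.mem_center_iff.1 b.2 a))
  exact hR.ne_one x hx (Subgroup.mem_bot.1 (hbot ▸ hz))

theorem IsRankThree.exists_commute {x : G} (hx : x ∈ D) : ∃ e ∈ D, Commute x e ∧ e ≠ x := by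
  by_contra hc
  push Not at hc
  have hx2 : orderOf x = 2 := Involution.orderOf_eq_two_iff'.2 ⟨hR.inv x hx, hR.ne_one x hx⟩
  have hiso : ZStar.OddComm x := by
    intro g
    have hy := hR.conj_mem g x hx
    rw [show x * g * x⁻¹ * g⁻¹ = x * (g * x * g⁻¹) by
      rw [inv_eq_of_mul_eq_one_right (hR.inv x hx)]; group]
    by_contra hodd
    have heven := Nat.not_odd_iff_even.1 hodd
    obtain ⟨r, hr⟩ : ∃ r, r = x * (g * x * g⁻¹) := ⟨_, rfl⟩
    rw [← hr] at heven
    have hmem := line_mem hR.inv hR.conj_mem hx hy (orderOf r / 2)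
    have hcz := Involution.commute_pow_half_left (hR.inv x hx) (hR.inv _ hy) (hr ▸ heven)
    rw [← hr] at hmem hcz
    have h := hc _ hmem ((Commute.refl x).mul_right hcz.symm)
    rw [mul_eq_left] at h
    have h2 := Involution.orderOf_pow_half heven (orderOf_pos r).ne'
    rw [h, orderOf_one] at h2
    omega
  obtain ⟨N, hN, hodd, hmem⟩ := ZStar.zStar hx2 hiso
  have hbot := hR.sol N hN (PF14.feitThompson N hodd)
  obtain ⟨y, -, hy⟩ := hR.not_central hx
  refine hy ?_
  have h := hmem y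
  rw [hbot, Subgroup.mem_bot, mul_inv_eq_one, mul_inv_eq_iff_eq_mul] at h
  exact h

theorem IsRankThree.same_noncommute {x a b : G} (hx : x ∈ D) (ha : a ∈ D) (hb : b ∈ D)
    (hxa : ¬ Commute x a) (hxb : ¬ Commute x b) : ∃ g, Commute g x ∧ g * a * g⁻¹ = b := by
  obtain ⟨c, hc, hxc, hcx⟩ := hR.exists_commute hx
  obtain ⟨g, hg, h | h | h⟩ := hR.rank x hx a ha b hb c hc
    (fun h => hxa (h ▸ Commute.refl x)) (fun h => hxb (h ▸ Commute.refl x)) hcx
  · exact ⟨g, hg, h⟩
  · refine absurd ?_ hxa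
    rw [← commute_conj_iff g, commute_left_conj hg, h]
    exact hxc
  · refine absurd ?_ hxb
    rw [← commute_conj_iff g, commute_left_conj hg, h]
    exact hxc

theorem IsRankThree.same_commute {x a b : G} (hx : x ∈ D) (ha : a ∈ D) (hb : b ∈ D)
    (hxa : Commute x a) (hxb : Commute x b) (hax : a ≠ x) (hbx : b ≠ x) :
    ∃ g, Commute g x ∧ g * a * g⁻¹ = b := by
  obtain ⟨c, hc, hxc⟩ := hR.not_central hx
  obtain ⟨g, hg, h | h | h⟩ := hR.rank x hx a ha b hb c hc hax hbx
    (fun h => hxc (h ▸ Commute.refl x))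
  · exact ⟨g, hg, h⟩
  · refine absurd ?_ hxc
    have := (commute_conj_iff g x a).2 hxa
    rwa [commute_left_conj hg, h] at this
  · refine absurd ?_ hxc
    have := (commute_conj_iff g x b).2 hxb
    rwa [commute_left_conj hg, h] at this

theorem IsRankThree.orderOf_eq {x a y b : G} (hx : x ∈ D) (ha : a ∈ D) (hy : y ∈ D) (hb : b ∈ D)
    (hxa : ¬ Commute x a) (hyb : ¬ Commute y b) : orderOf (x * a) = orderOf (y * b) := by
  obtain ⟨g, rfl⟩ := hR.trans x hx y hy
  obtain ⟨k, hk, rfl⟩ := hR.same_noncommute hy (hR.conj_mem g a ha) hb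
    (fun h => hxa ((commute_conj_iff g x a).1 h)) hyb
  rw [← commute_left_conj hk]
  rw [conj_mul, conj_mul, Involution.orderOf_conj, Involution.orderOf_conj]

theorem IsRankThree.false_of_isPT {p : ℕ} (hp : 5 ≤ p) (hD : IsPT p D) {d : G} (hd : d ∈ D) :
    False := by
  have hG := isPT_good hp hD
  have hp3 : p ≠ 3 := by omega
  by_cases hT : ∃ d ∈ D, ∃ e ∈ D, ∃ f ∈ D, Commute d e ∧ d ≠ e ∧ ¬ Commute f d ∧ ¬ Commute f e
  · clear hd d
    obtain ⟨d, hd, e, he, f, hf, hde, hne, hfd, hfe⟩ := hT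
    have hE : ∀ a ∈ D, ∀ b ∈ D, ∀ c ∈ D, Commute a b → Commute b c → Commute a c := by
      intro a ha b hb c hc hab hbc
      by_cases h : b = c
      · exact h ▸ hab
      obtain ⟨g, rfl⟩ := hR.trans d hd b hb
      obtain ⟨k, hk, rfl⟩ := hR.same_commute hb (hR.conj_mem g e he) hc
        ((commute_conj_iff g d e).2 hde) hbc
        (fun h' => hne (by simpa using h'.symm)) (fun h' => h h'.symm)
      refine hD.good_nbhd hG hp3 hb hc hbc h (hR.conj_mem k _ (hR.conj_mem g f hf)) ?_ ?_ ha hab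
      · intro h'
        have h'' : Commute (k * (g * f * g⁻¹) * k⁻¹) (k * (g * d * g⁻¹) * k⁻¹) := by
          rwa [commute_left_conj hk]
        exact hfd ((commute_conj_iff g f d).1 ((commute_conj_iff k _ _).1 h''))
      · exact fun h' => hfe ((commute_conj_iff g f e).1 ((commute_conj_iff k _ _).1 h'))
    have hu1 : d * e ≠ 1 := fun h' => hne (by
      rw [← hD.inv_eq hd, inv_eq_of_mul_eq_one_right h'])
    obtain ⟨N, hN, hN2, hm⟩ := hD.exists_normal_two hu1 hE hd he hde (by
      intro x hx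
      by_cases hxd : Commute x d
      · rw [commute_left_conj (hxd.mul_right (hE x hx d hd e he hxd hde)).symm]
      · exact hG d hd e he x hx hde hne hxd fun h' => hxd (hE x hx e he d hd h' hde.symm))
    have : Fact (Nat.Prime 2) := ⟨Nat.prime_two⟩
    have := hN2.isNilpotent
    rw [hR.sol N hN inferInstance, Subgroup.mem_bot] at hm
    exact hu1 hm
  push Not at hT
  have key : ∀ {a b f : G}, a ∈ D → b ∈ D → f ∈ D → Commute a b → a ≠ b → ¬ Commute f a →
      Commute f b := fun ha hb hf h1 h2 h3 => hT _ ha _ hb _ hf h1 h2 h3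
  obtain ⟨e, he, hde, hed⟩ := hR.exists_commute hd
  obtain ⟨Δ, hΔ⟩ : ∃ Δ : Set G, Δ = {y | y ∈ D ∧ (y = d ∨ ¬ Commute y d)} := ⟨_, rfl⟩
  have hstep : ∀ z ∈ D, ∀ y ∈ Δ, z * y * z⁻¹ ∈ Δ := by
    intro z hz y hy
    rw [hΔ] at hy ⊢
    refine ⟨hR.conj_mem z y hy.1, ?_⟩
    by_cases hzd : Commute z d
    · rcases hy.2 with rfl | hyd
      · exact Or.inl (commute_left_conj hzd)
      · right
        intro h
        refine hyd ((commute_conj_iff z y d).1 ?_)
        rwa [commute_left_conj hzd]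
    · rcases hy.2 with rfl | hyd
      · right
        exact fun h => hD.not_commute_conj hd hz (fun h' => hzd h'.symm) h.symm
      · by_contra h
        push Not at h
        have hzw := key hd (hR.conj_mem z y hy.1) hz h.2.symm (Ne.symm h.1) hzd
        have h3 : Commute z y := by
          have := (commute_conj_iff z z y)
          rw [commute_left_conj (Commute.refl z)] at this
          exact this.1 hzw
        rw [commute_left_conj h3] at h
        exact hyd h.2
  have hle : (⊤ : Subgroup G) ≤ Subgroup.normalizer Δ := by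
    rw [← hR.gen, Subgroup.closure_le]
    intro z hz
    show ∀ y, y ∈ Δ ↔ z * y * z⁻¹ ∈ Δ
    refine fun y => ⟨hstep z hz y, fun h => ?_⟩
    have h' := hstep z hz _ h
    have hzi := inv_eq_of_mul_eq_one_right (hR.inv z hz)
    rw [hzi] at h'
    convert h' using 1
    calc y = (z * z) * y * (z * z) := by rw [hR.inv z hz, one_mul, mul_one]
      _ = _ := by simp only [mul_assoc]
  obtain ⟨g, rfl⟩ := hR.trans d hd e he
  have hm : g * d * g⁻¹ ∈ Δ :=
    ((hle (Subgroup.mem_top g) : ∀ y, y ∈ Δ ↔ g * y * g⁻¹ ∈ Δ) d).1 (hΔ ▸ ⟨hd, Or.inl rfl⟩)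
  rw [hΔ] at hm
  exact hm.2.elim hed fun h => h hde.symm

theorem IsRankThree.isThreeTranspositionSet : IsThreeTranspositionSet D := by
  refine ⟨fun x hx => Involution.orderOf_eq_two_iff'.2 ⟨hR.inv x hx, hR.ne_one x hx⟩, ?_⟩
  intro x hx a ha
  by_cases hxa : Commute x a
  · exact Or.inl (by rw [pow_two]; exact mul_self_mul (hR.inv x hx) (hR.inv a ha) hxa)
  right
  obtain ⟨m, hm⟩ : ∃ m, m = orderOf (x * a) := ⟨_, rfl⟩
  have hall : ∀ y ∈ D, ∀ b ∈ D, Commute y b ∨ orderOf (y * b) = m := fun y hy b hb =>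
    (em (Commute y b)).imp id fun h => hm ▸ hR.orderOf_eq hy hb hx ha h hxa
  have hpow : ∀ j : ℕ, ((x * a) ^ j) * ((x * a) ^ j) = 1 ∨ orderOf ((x * a) ^ j) = m := by
    intro j
    have hmem := line_mem hR.inv hR.conj_mem hx ha j
    have he : x * (x * (x * a) ^ j) = (x * a) ^ j := by rw [← mul_assoc, hR.inv x hx, one_mul]
    rcases hall x hx _ hmem with h | h
    · left
      have := mul_self_mul (hR.inv x hx) (hR.inv _ hmem) h
      rwa [he] at this
    · right
      rwa [he] at h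
  have hm2 : 3 ≤ m := by
    by_contra h
    have h0 : 0 < m := hm ▸ orderOf_pos _
    refine hxa (commute_of_mul_self (hR.inv x hx) (hR.inv a ha) ?_)
    have hdvd : m ∣ 2 := by
      rcases (show m = 1 ∨ m = 2 by omega) with h1 | h1 <;> rw [h1]; decide
    rw [← pow_two]
    exact orderOf_dvd_iff_pow_eq_one.1 (hm ▸ hdvd)
  have hodd : Odd m := by
    rw [← Nat.not_even_iff_odd]
    intro heven
    obtain ⟨k, hk⟩ := heven
    rcases hpow 2 with h | h
    · have h4 : m ∣ 4 := hm ▸ orderOf_dvd_of_pow_eq_one (by rw [← pow_add] at h; exact h)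
      have hm4 : m = 4 := by
        have := Nat.le_of_dvd (by norm_num) h4
        omega
      have : Fact (Nat.Prime 2) := ⟨Nat.prime_two⟩
      obtain ⟨N, hN, hN2, hxN⟩ := Involution.baerSuzuki (p := 2) x fun g d => by
        have hy := hR.conj_mem g x hx
        refine ⟨2, Subtype.ext ?_⟩
        rw [Subgroup.coe_pow, Subgroup.coe_one]
        obtain ⟨i, hi | hi⟩ := (Involution.mem_closure_pair_involutions (hR.inv x hx)
          (hR.inv _ hy)).1 d.2
        · have h4' : (x * (g * x * g⁻¹)) ^ (4 : ℕ) = 1 := by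
            rcases hall x hx _ hy with hc | hc
            · rw [show (4 : ℕ) = 2 * 2 by norm_num, pow_mul, pow_two, pow_two,
                mul_self_mul (hR.inv x hx) (hR.inv _ hy) hc, one_mul]
            · rw [← hm4, ← hc, pow_orderOf_eq_one]
          rw [hi, show (2 : ℕ) ^ 2 = 4 by norm_num, ← zpow_natCast, ← zpow_mul, mul_comm, zpow_mul,
            zpow_natCast, h4', one_zpow]
        · rw [hi, show (2 : ℕ) ^ 2 = 2 * 2 by norm_num, pow_mul, pow_two, pow_two,
            Involution.left_mul_zpow_sq (hR.inv x hx) (hR.inv _ hy), one_mul]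
      have := hN2.isNilpotent
      rw [hR.sol N hN inferInstance, Subgroup.mem_bot] at hxN
      exact hR.ne_one x hx hxN
    · rw [orderOf_pow' _ two_ne_zero, ← hm, hk, ← two_mul, Nat.gcd_eq_right (dvd_mul_right 2 k)] at h
      omega
  have hprime : m.Prime := by
    have hq := Nat.minFac_prime (show m ≠ 1 by omega)
    have ho : orderOf ((x * a) ^ (m / m.minFac)) = m.minFac := by
      rw [hm]
      exact orderOf_pow_orderOf_div (orderOf_pos _).ne' (Nat.minFac_dvd _)
    rcases hpow (m / m.minFac) with h | h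
    · exfalso
      rw [← pow_two, ← orderOf_dvd_iff_pow_eq_one, ho] at h
      have h2 := (Nat.prime_dvd_prime_iff_eq hq Nat.prime_two).1 h
      exact absurd (h2 ▸ Nat.minFac_dvd m) (fun h' => by
        obtain ⟨k, hk⟩ := hodd
        omega)
    · rw [← h.symm.trans ho] at hq
      exact hq
  have hm3 : m = 3 := by
    by_contra h3
    have h5 : 5 ≤ m := by
      obtain ⟨k, hk⟩ := hodd
      omega
    exact hR.false_of_isPT h5 ⟨hR.inv, hR.ne_one, hR.conj_mem, hall, hprime, hodd⟩ hx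
  rw [← hm3, hm, pow_orderOf_eq_one]

end Cfsg.Agent.PTrans81
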